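import Groth.Agent.Surf.K823.Total

/-!
# Relatively minimal models of ramified base changes are nodal families
-/

set_option autoImplicit false
universe u
open CategoryTheory CategoryTheory.Limits AlgebraicGeometry TopologicalSpace IsLocalRing

namespace K823.Nodal

open Groth.Agent FibPt GenFib

variable {k : Type u} [Field k] [IsAlgClosed k] {C : Scheme.{u}} (sC : C ⟶ Spec (CommRingCat.of k)) [IsProper sC]
  [Smooth sC] [IsIntegral C] (hC : topologicalKrullDim C = 1) {X : Scheme.{u}} (f : X ⟶ C)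
  (hf : IsGen f) {φ : C ⟶ C}
  (hφ : φ ≫ sC = sC) (hφη : φ (genericPoint C) = genericPoint C) {Y : Scheme.{u}} {a : Y ⟶ X} {f' : Y ⟶ C}
  (hY : IsPullback a f' f φ) [IsProper f'] [LocallyOfFinitePresentation f']
  (hfib : ∀ c : C, ConnectedSpace ↥(f'.fiber c) ∧ topologicalKrullDim ↥(f'.fiber c) = 1) (U : C.Opens)
  (hη : genericPoint C ∈ U) (hU : ∀ y : Y, f' y ∈ U → y ∈ f'.smoothLocus)
  {M : Scheme.{u}} {p : M ⟶ C} (hM : MinFib.IsMod sC U (f' ∣_ U) p)
  (hmin : ∀ (E : Scheme.{u}) (ι : E ⟶ M) [IsClosedImmersion ι], Models.IsExcCurve ι → ∀ b : C, b ∉ U →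
      ¬ ∀ e : E, p (ι e) = b) {n : ℕ} (hn : n ≠ 0)
  (hidx : ∀ w : C, w ∉ U → SemiAt.IsIndex sC f (φ w) n)
  (hram : ∀ w : C, w ∉ U → (maximalIdeal (C.presheaf.stalk (φ w))).map (φ.stalkMap w).hom =
    maximalIdeal (C.presheaf.stalk w) ^ n)

include hC hf hφ hφη hY hfib hη hU hM hmin hn hidx hram

theorem isNodalFamily : Curv2.IsNodalFamily p := by
  have := Total.isProper sC f' U hM
  have h1 := Total.flat sC hC f' hfib U hη hM
  have h2 : LocallyOfFinitePresentation p := BadSet.lfp sC p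
  refine ⟨h1, h2, fun s => ?_⟩
  by_cases hs : s ∈ U
  · have h3 := Total.smooth_of_mem sC f' U hM hU hs
    have h4 := Total.conn sC f' hfib (hf.of_isPullback hφη hY) U hη hM s
    have h5 := Total.dim_of_mem sC f' hfib U hM hs
    let _ : (p.fiber s).Over (Spec (CommRingCat.of (C.residueField s))) := ⟨p.fiberToSpecResidueField s⟩
    have h6 : Smooth ((p.fiber s) ↘ Spec (CommRingCat.of (C.residueField s))) := h3
    exact Total.nodal_of_smooth h5
  · have hsc : IsClosed ({s} : Set C) := Total.isClosed_of_ne hC (by rintro rfl; exact hs hη)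
    have := Total.isDVR sC hC hsc
    have hW : Nonempty (f' ⁻¹ᵁ U : Scheme.{u}) :=
      (SmoothPart.isIntegral_total sC hC f' (fun c => (hfib c).1) (fun c => (hfib c).2) U ⟨_, hη⟩ hU).nonempty
    exact SemiAt.nodal_at sC hf hφ hφη hY hη hM hmin hs hsc (hidx s hs) (dvd_refl n) hn (hram s hs)

end K823.Nodal
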