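import Groth.Statements.S15102
import Groth.Agent.Surf.K823.Nodal
import Groth.Agent.S15101
import Groth.Agent.Surf.K118.GenFib
import Groth.Agent.Surf.K582.Cover
import Groth.Agent.Surf.K993.HMin
import Groth.Agent.Surf.K185.Chi

/-!
# Families of curves over the projective line with at most two critical values are isotrivial
-/

set_option autoImplicit false
open CategoryTheory CategoryTheory.Limits AlgebraicGeometry TopologicalSpace IsLocalRing

namespace K823.Final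

open Groth.Agent FibPt GenFib Surf

theorem false_of_pair
    (C : Scheme.{0}) [C.Over (Spec (CommRingCat.of ℂ))] [IsProper (C ↘ (Spec (CommRingCat.of ℂ)))]
    [Smooth (C ↘ (Spec (CommRingCat.of ℂ)))] [IsIntegral C] (hdimC : topologicalKrullDim C = 1)
    (hC0 : Curv2.genus ℂ C = 0) (X : Scheme.{0}) (f : X ⟶ C) [IsProper f] [Flat f] [LocallyOfFinitePresentation f]
    (hfib : ∀ c : C, ConnectedSpace ↥(f.fiber c) ∧ topologicalKrullDim ↥(f.fiber c) = 1)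
    {a b : C} (ha : IsClosed ({a} : Set C)) (hb : IsClosed ({b} : Set C)) (hab : a ≠ b) {c₁ c₂ : C}
    (hc₁ : IsClosed ({c₁} : Set C)) (hc₂ : IsClosed ({c₂} : Set C)) (hs₁ : Smooth (f.fiberToSpecResidueField c₁))
    (h1a : c₁ ≠ a) (h1b : c₁ ≠ b) (h2a : c₂ ≠ a) (h2b : c₂ ≠ b)
    (hsm : ∀ x : X, f x ≠ a → f x ≠ b → x ∈ f.smoothLocus)
    (hne : ∀ e : f.fiber c₁ ≅ f.fiber c₂, e.hom ≫ f.fiberι c₂ ≫ f ≫ (C ↘ (Spec (CommRingCat.of ℂ))) ≠
      f.fiberι c₁ ≫ f ≫ (C ↘ (Spec (CommRingCat.of ℂ)))) : False := by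
  have hreg : ∀ x : C, IsRegularLocalRing (C.presheaf.stalk x) := fun x =>
    Lefpen.H705.ClosedPoint.isRegularLocalRing_stalk (C ↘ (Spec (CommRingCat.of ℂ))) x
  have hgen : IsGen f := gen_mk fun K _ h hh => K118.GenFib.generic_fiber ℂ C (C ↘ (Spec (CommRingCat.of ℂ))) hdimC hreg X f
    c₁ hc₁ (hfib c₁).1 (hfib c₁).2 hs₁ K h hh
  have := Total.isDVR (C ↘ (Spec (CommRingCat.of ℂ))) hdimC ha
  have := Total.isDVR (C ↘ (Spec (CommRingCat.of ℂ))) hdimC hb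
  obtain ⟨ma, hma, Ha⟩ := SemiAt.exists_isIndex (C ↘ (Spec (CommRingCat.of ℂ))) hgen ha
  obtain ⟨mb, hmb, Hb⟩ := SemiAt.exists_isIndex (C ↘ (Spec (CommRingCat.of ℂ))) hgen hb
  obtain ⟨φ, hφ, hφs, ⟨a', b', ha', hb'⟩, hram⟩ := K582.Cover.exists_cover ℂ C hdimC hC0 a b ha hb hab (ma * mb)
    (mul_ne_zero hma hmb)
  have : IsDominant φ := inferInstance
  have hφη : φ (genericPoint C) = genericPoint C := K381.DedFlat.map_genericPoint φ
  have hY : IsPullback (pullback.fst f φ) (pullback.snd f φ) f φ := IsPullback.of_hasPullback f φ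
  have hfib' := fun c => Total.fib (C ↘ (Spec (CommRingCat.of ℂ))) hdimC f hfib hφ hφη hY hgen c
  have hf' : IsGen (pullback.snd f φ) := hgen.of_isPullback hφη hY
  have hcl : IsClosed ({a, b} : Set C) := (ha.union hb)
  let V : C.Opens := ⟨({a, b} : Set C)ᶜ, hcl.isOpen_compl⟩
  let U : C.Opens := φ ⁻¹ᵁ V
  have hUiff : ∀ w : C, w ∈ U ↔ φ w ≠ a ∧ φ w ≠ b := fun w => by
    change ¬ (φ w = a ∨ φ w = b) ↔ _
    rw [not_or]
  have hη : genericPoint C ∈ U := by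
    rw [hUiff, hφη]
    exact ⟨(Total.ne_of_isClosed hdimC ha).symm, (Total.ne_of_isClosed hdimC hb).symm⟩
  have hUs : ∀ y : ↥(pullback f φ), (pullback.snd f φ) y ∈ U → y ∈ (pullback.snd f φ).smoothLocus := by
    intro y hy
    have h1 : f ((pullback.fst f φ) y) = φ ((pullback.snd f φ) y) := by
      rw [← Scheme.Hom.comp_apply, ← Scheme.Hom.comp_apply, hY.w]
    rw [hUiff] at hy
    have h2 := hsm ((pullback.fst f φ) y) (by rw [h1]; exact hy.1) (by rw [h1]; exact hy.2)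
    exact (Smoothlim.SmoothLocusBC.mem_smoothLocus_iff_of_isPullback hY y
      (Or.inl (Smoothlim.SmoothLocusBC.flat_stalkMap_of_mem_smoothLocus h2))).2 h2
  have hnot : ∀ w, w ∉ U → φ w = a ∨ φ w = b := fun w hw => by
    rw [hUiff] at hw
    tauto
  obtain ⟨M, p, hM, hmin⟩ := Model.exists_min_model (C ↘ (Spec (CommRingCat.of ℂ))) hdimC (pullback.snd f φ)
    (fun c => (hfib' c).1) (fun c => (hfib' c).2) U ⟨_, hη⟩ hUs
  let _ : M.Over (Spec (CommRingCat.of ℂ)) := ⟨p ≫ (C ↘ (Spec (CommRingCat.of ℂ)))⟩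
  have hov : p.IsOver (Spec (CommRingCat.of ℂ)) := ⟨rfl⟩
  have hMp : IsProper (M ↘ (Spec (CommRingCat.of ℂ))) := hM.1.proper
  have hMs : Smooth (M ↘ (Spec (CommRingCat.of ℂ))) := hM.1.smooth
  have hMi : IsIntegral M := hM.1.integral
  have hMd : topologicalKrullDim M = 2 := hM.1.dim
  have hpp : IsProper p := Total.isProper _ _ U hM
  have hsurj : Surjective p := Total.surjective _ _ hfib' U hη hM
  have hflat : Flat p := Total.flat _ hdimC _ hfib' U hη hM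
  have hlfp : LocallyOfFinitePresentation p := BadSet.lfp (C ↘ (Spec (CommRingCat.of ℂ))) p
  have hpush : IsIso (ClSub.unitToPush p) := Total.unitToPush _ _ hfib' hf' U hη hM
  have hcc : ∀ c : C, ConnectedSpace (p.fiber c) := fun c => Total.conn _ _ hfib' hf' U hη hM c
  have hsmU : ∀ s ∈ U, Smooth (p.fiberToSpecResidueField s) := fun s hs => Total.smooth_of_mem _ _ U hM hUs hs
  have hnod : Curv2.IsNodalFamily p := by
    refine Nodal.isNodalFamily (C ↘ (Spec (CommRingCat.of ℂ))) hdimC f hgen hφ hφη hY hfib' U hη hUs hM hmin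
      (mul_ne_zero hma hmb) (fun w hw => ?_) (fun w hw => hram w (hnot w hw))
    rcases hnot w hw with h | h
    · rw [h]; exact Ha.mono _ (dvd_mul_right _ _)
    · rw [h]; exact Hb.mono _ (dvd_mul_left _ _)
  have hdim1 : ∀ c : C, topologicalKrullDim (p.fiber c) = 1 := by
    intro c
    have := hcc c
    rw [VarietyB.DimTop.topologicalKrullDim_eq_iSup_irreducibleComponents]
    apply le_antisymm
    · exact iSup_le fun Z => ((hnod.2.2 c).1 Z.1 Z.2).le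
    · obtain ⟨x⟩ : Nonempty (p.fiber c) := inferInstance
      have h1 := (hnod.2.2 c).1 _ (irreducibleComponent_mem_irreducibleComponents x)
      rw [← h1]
      exact le_iSup (fun Z : irreducibleComponents (p.fiber c : Type) => topologicalKrullDim (Z : Set (p.fiber c)))
        ⟨_, irreducibleComponent_mem_irreducibleComponents x⟩
  obtain ⟨w₁, rfl⟩ := hφs.surj c₁
  obtain ⟨w₂, rfl⟩ := hφs.surj c₂
  have hw₁U : w₁ ∈ U := (hUiff w₁).2 ⟨h1a, h1b⟩
  have hw₂U : w₂ ∈ U := (hUiff w₂).2 ⟨h2a, h2b⟩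
  have hw₁ : IsClosed ({w₁} : Set C) := Total.isClosed_of_ne hdimC (by
    rintro rfl
    exact Total.ne_of_isClosed hdimC hc₁ hφη)
  have hw₂ : IsClosed ({w₂} : Set C) := Total.isClosed_of_ne hdimC (by
    rintro rfl
    exact Total.ne_of_isClosed hdimC hc₂ hφη)
  obtain ⟨e, he⟩ := hM.2
  obtain ⟨e₁, he₁⟩ := exists_iso_fiber _ _ φ hφ f p hY U e he hw₁U hw₁ hc₁
  obtain ⟨e₂, he₂⟩ := exists_iso_fiber _ _ φ hφ f p hY U e he hw₂U hw₂ hc₂
  have key : ∀ E : p.fiber w₁ ≅ p.fiber w₂, E.hom ≫ p.fiberι w₂ ≫ p ≫ (C ↘ (Spec (CommRingCat.of ℂ))) ≠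
      p.fiberι w₁ ≫ p ≫ (C ↘ (Spec (CommRingCat.of ℂ))) := by
    intro E hE
    refine hne (e₁.symm ≪≫ E ≪≫ e₂) ?_
    simp only [Iso.trans_hom, Iso.symm_hom, Category.assoc]
    rw [he₂, hE, Iso.inv_comp_eq, he₁]
  obtain ⟨g, hg, hg0⟩ := K185.Chi.exists_genus ℂ C hdimC M p (fun c _ _ => ⟨hcc c, hdim1 c⟩)
  have hg1 : 1 ≤ g := by
    by_contra hlt
    obtain ⟨E, hE⟩ := hg0 (by omega) w₁ w₂ hw₁ hw₂ (hsmU w₁ hw₁U) (hsmU w₂ hw₂U)
    exact key E hE
  have hmin' := K993.HMin.false_of_exc ℂ C hdimC M hMd p U (fun c hc hcl => ⟨hsmU c hc, hcc c, by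
    rw [hg c hcl (hsmU c hc)]
    omega⟩) hmin
  have hprod : ∃ (F : Scheme.{0}) (q : F ⟶ (Spec (CommRingCat.of ℂ))) (e : M ≅ pullback q (C ↘ (Spec (CommRingCat.of ℂ)))),
      e.hom ≫ pullback.snd q (C ↘ (Spec (CommRingCat.of ℂ))) = p := by
    by_contra hnt
    have h4 := Groth.Agent.S15101.result M hMd C hdimC hC0 p hpush hnod w₁ hw₁ (hsmU w₁ hw₁U) g hg1
      (hg w₁ hw₁ (hsmU w₁ hw₁U)) hmin' hnt
    have h5 : {c : C | IsClosed ({c} : Set C) ∧ ¬ Smooth (p.fiberToSpecResidueField c)} ⊆ {a', b'} := by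
      rintro c ⟨-, hc⟩
      have hcU : c ∉ U := fun h => hc (hsmU c h)
      rcases hnot c hcU with h | h
      · exact Or.inl (ha' c h)
      · exact Or.inr (hb' c h)
    have h6 := Set.ncard_le_ncard h5 (Set.toFinite _)
    have h7 : ({a', b'} : Set C).ncard ≤ 2 := (Set.ncard_insert_le a' {b'}).trans (by rw [Set.ncard_singleton])
    omega
  obtain ⟨F, q, ε, hε⟩ := hprod
  obtain ⟨i₁, hi₁⟩ := exists_iso_of_product (C ↘ (Spec (CommRingCat.of ℂ))) q p ε hε hw₁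
  obtain ⟨i₂, hi₂⟩ := exists_iso_of_product (C ↘ (Spec (CommRingCat.of ℂ))) q p ε hε hw₂
  refine key (i₁ ≪≫ i₂.symm) ?_
  rw [Iso.trans_hom, Iso.symm_hom, Category.assoc, ← hi₂, Iso.inv_hom_id_assoc, hi₁]

/-- The theorem. -/
theorem main
    (C : Scheme.{0}) [C.Over (Spec (CommRingCat.of ℂ))] [IsProper (C ↘ (Spec (CommRingCat.of ℂ)))]
    [Smooth (C ↘ (Spec (CommRingCat.of ℂ)))] [IsIntegral C] (hdimC : topologicalKrullDim C = 1) (hC0 : Curv2.genus ℂ C = 0)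
    (X : Scheme.{0}) [X.Over (Spec (CommRingCat.of ℂ))] (f : X ⟶ C) [f.IsOver (Spec (CommRingCat.of ℂ))] [IsProper f] [Flat f]
    (hfib : ∀ c : C, ConnectedSpace ↥(f.fiber c) ∧ topologicalKrullDim ↥(f.fiber c) = 1)
    (hvar : ∃ c₁ c₂ : C, IsClosed ({c₁} : Set C) ∧ IsClosed ({c₂} : Set C) ∧
      Smooth (f.fiberToSpecResidueField c₁) ∧ Smooth (f.fiberToSpecResidueField c₂) ∧
      ∀ e : f.fiber c₁ ≅ f.fiber c₂, e.hom ≫ f.fiberι c₂ ≫ (X ↘ (Spec (CommRingCat.of ℂ))) ≠ f.fiberι c₁ ≫ (X ↘ (Spec (CommRingCat.of ℂ)))) :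
    3 ≤ Set.ncard {c : C | IsClosed ({c} : Set C) ∧ ¬ Smooth (f.fiberToSpecResidueField c)} := by
  by_contra hlt
  obtain ⟨c₁, c₂, hc₁, hc₂, hs₁, hs₂, hne⟩ := hvar
  have : LocallyOfFinitePresentation f := BadSet.lfp (C ↘ (Spec (CommRingCat.of ℂ))) f
  obtain ⟨a, b, ha, hb, hab, h1a, h1b, h2a, h2b, hsm⟩ := BadSet.exists_pair (C ↘ (Spec (CommRingCat.of ℂ))) hdimC f hs₁ hs₂
    (by omega)
  have hover : f ≫ (C ↘ (Spec (CommRingCat.of ℂ))) = (X ↘ (Spec (CommRingCat.of ℂ))) := comp_over f _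
  refine false_of_pair C hdimC hC0 X f hfib ha hb hab hc₁ hc₂ hs₁ h1a h1b h2a h2b hsm ?_
  rw [hover]
  exact hne

end K823.Final
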