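import Groth.Agent.Surf.K627.Fin

/-!
# The critical values of a family of curves over a curve; choice of two points containing them
-/

set_option autoImplicit false
universe u
open CategoryTheory CategoryTheory.Limits AlgebraicGeometry TopologicalSpace

namespace K823.BadSet

open K627.SurfFin Groth.Agent

variable {k : Type u} [Field k]

/-- A curve over a field has infinitely many closed points. -/
theorem infinite_closedPoints {C : Scheme.{u}} (sC : C ⟶ Spec (CommRingCat.of k))
    [LocallyOfFiniteType sC] [IrreducibleSpace C] (hdim : topologicalKrullDim C = 1) :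
    {x : C | IsClosed ({x} : Set C)}.Infinite := by
  have hJ : JacobsonSpace C := LocallyOfFiniteType.jacobsonSpace sC
  intro hfin
  have hfin : (closedPoints C).Finite := hfin
  have h1 : closure (closedPoints C) = Set.univ := closure_closedPoints (X := C)
  have h2 : IsClosed (closedPoints C) := by
    rw [← Set.biUnion_of_singleton (closedPoints C)]
    exact hfin.isClosed_biUnion fun x hx => hx
  rw [h2.closure_eq] at h1
  have h3 : IsClosed ({genericPoint C} : Set C) := by
    have : genericPoint C ∈ closedPoints C := h1 ▸ Set.mem_univ _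
    exact this
  have huniv : (Set.univ : Set C) = {genericPoint C} := by
    rw [← genericPoint_closure, h3.closure_eq]
  have : Subsingleton C := by
    refine ⟨fun a b => ?_⟩
    have ha : a ∈ ({genericPoint C} : Set C) := huniv ▸ Set.mem_univ a
    have hb : b ∈ ({genericPoint C} : Set C) := huniv ▸ Set.mem_univ b
    rw [Set.mem_singleton_iff.1 ha, Set.mem_singleton_iff.1 hb]
  have h0 : topologicalKrullDim C ≤ 0 := topologicalKrullDim_zero_of_discreteTopology C
  rw [hdim] at h0
  exact absurd h0 (by decide)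

variable {C X : Scheme.{u}} (sC : C ⟶ Spec (CommRingCat.of k)) [IsProper sC] [IsIntegral C]
  (hC : topologicalKrullDim C = 1) (f : X ⟶ C) [IsProper f] [Flat f] {c₁ : C}
  (hc₁ : Smooth (f.fiberToSpecResidueField c₁))

include sC in
omit [IsIntegral C] in
theorem isNoetherian_base : IsNoetherian C := by
  have h1 : IsLocallyNoetherian C := LocallyOfFiniteType.isLocallyNoetherian sC
  have h2 : CompactSpace C := QuasiCompact.compactSpace_of_compactSpace sC
  exact {}

include sC in
omit [Flat f] [IsIntegral C] in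
theorem lfp : LocallyOfFinitePresentation f := by
  have := isNoetherian_base sC
  infer_instance

variable [LocallyOfFinitePresentation f]

omit [IsIntegral C] [IsProper f] in
theorem smooth_iff (c : C) : Smooth (f.fiberToSpecResidueField c) ↔ c ∉ f '' ((f.smoothLocus : Set X)ᶜ) := by
  rw [smooth_fiber_iff]
  constructor
  · rintro h ⟨x, hx, hx'⟩
    exact hx (h x hx')
  · intro h x hx
    by_contra hx'
    exact h ⟨x, hx', hx⟩

include sC hC hc₁ in
/-- The critical values form a finite set of closed points. -/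
theorem finite : (f '' ((f.smoothLocus : Set X)ᶜ)).Finite ∧
    ∀ c ∈ f '' ((f.smoothLocus : Set X)ᶜ), IsClosed ({c} : Set C) := by
  have := isNoetherian_base sC
  have hcl : IsClosed (f '' ((f.smoothLocus : Set X)ᶜ)) := f.isClosedMap _ f.smoothLocus.2.isClosed_compl
  have hq : c₁ ∉ f '' ((f.smoothLocus : Set X)ᶜ) := (smooth_iff f c₁).1 hc₁
  let U : C.Opens := ⟨(f '' ((f.smoothLocus : Set X)ᶜ))ᶜ, hcl.isOpen_compl⟩
  have hU : (U : Set C) = (f '' ((f.smoothLocus : Set X)ᶜ))ᶜ := rfl
  have hgen : ∀ y ∉ U, ∃ η : C, η ⤳ y ∧ η ≠ y := by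
    intro y hy
    refine ⟨genericPoint C, genericPoint_specializes y, ?_⟩
    rintro rfl
    exact hy ((genericPoint_specializes c₁).mem_open U.2 hq)
  have h1 := Ega4dA.CurveLine.finite_compl hC.le hgen
  rw [hU, compl_compl] at h1
  refine ⟨h1, fun c hc => Ega4dA.CurveLine.isClosed_compl_point hC.le hgen ?_⟩
  exact fun hcU => hcU hc

include sC hC hc₁ in
/-- If there are fewer than three critical values, they are contained in a pair of closed points avoiding two given
smooth values. -/
theorem exists_pair {c₂ : C} (hc₂ : Smooth (f.fiberToSpecResidueField c₂))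
    (hlt : Set.ncard {c : C | IsClosed ({c} : Set C) ∧ ¬ Smooth (f.fiberToSpecResidueField c)} < 3) :
    ∃ a b : C, IsClosed ({a} : Set C) ∧ IsClosed ({b} : Set C) ∧ a ≠ b ∧ c₁ ≠ a ∧ c₁ ≠ b ∧ c₂ ≠ a ∧ c₂ ≠ b ∧
      ∀ x : X, f x ≠ a → f x ≠ b → x ∈ f.smoothLocus := by
  obtain ⟨h1, h2⟩ := finite sC hC f hc₁
  have heq : {c : C | IsClosed ({c} : Set C) ∧ ¬ Smooth (f.fiberToSpecResidueField c)} = f '' ((f.smoothLocus : Set X)ᶜ) := by
    ext c
    rw [Set.mem_ofPred_eq, smooth_iff f c, not_not]
    exact ⟨fun h => h.2, fun h => ⟨h2 c h, h⟩⟩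
  rw [heq] at hlt
  have hinf : ({x : C | IsClosed ({x} : Set C)} \ {c₁, c₂}).Infinite :=
    (infinite_closedPoints sC hC).sdiff (Set.toFinite _)
  obtain ⟨T, hT1, hT2, hT3⟩ := hinf.exists_superset_ncard_eq (s := f '' ((f.smoothLocus : Set X)ᶜ))
    (fun c hc => ⟨h2 c hc, by
      rintro (rfl | rfl)
      · exact (smooth_iff f _).1 hc₁ hc
      · exact (smooth_iff f _).1 hc₂ hc⟩) h1 (k := 2) (by omega)
  obtain ⟨a, b, hab, rfl⟩ := Set.ncard_eq_two.1 hT3
  obtain ⟨ha, ha'⟩ := hT2 (Set.mem_insert a _)
  obtain ⟨hb, hb'⟩ := hT2 (Set.mem_insert_of_mem a rfl)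
  simp only [Set.mem_insert_iff, Set.mem_singleton_iff, not_or] at ha' hb'
  refine ⟨a, b, ha, hb, hab, fun h => ha'.1 h.symm, fun h => hb'.1 h.symm, fun h => ha'.2 h.symm,
    fun h => hb'.2 h.symm, fun x hxa hxb => ?_⟩
  by_contra hx
  rcases hT1 ⟨x, hx, rfl⟩ with h | h
  · exact hxa h
  · exact hxb h

end K823.BadSet
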