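import Mathlib.AlgebraicGeometry.AlgClosed.Basic
import Mathlib.AlgebraicGeometry.Stalk
import Mathlib.AlgebraicGeometry.ResidueField

/-!
# The base field in the local rings of a scheme over an algebraically closed field
-/

set_option autoImplicit false
universe u
open CategoryTheory CategoryTheory.Limits AlgebraicGeometry TopologicalSpace IsLocalRing

namespace K823.BaseField

variable {k : Type u} [Field k] {C : Scheme.{u}} (sC : C ⟶ Spec (CommRingCat.of k))

/-- The structure homomorphism of a local ring. -/
noncomputable def str (c : C) : k →+* C.presheaf.stalk c := (Spec.preimage (C.fromSpecStalk c ≫ sC)).hom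

theorem SpecMap_str (c : C) : Spec.map (CommRingCat.ofHom (str sC c)) = C.fromSpecStalk c ≫ sC := by
  exact Spec.map_preimage _

theorem stalkMap_comp_str {B : Scheme.{u}} (sB : B ⟶ Spec (CommRingCat.of k)) (φ : B ⟶ C) (hφ : φ ≫ sC = sB) (w : B) :
    (φ.stalkMap w).hom.comp (str sC (φ w)) = str sB w := by
  have h : CommRingCat.ofHom ((φ.stalkMap w).hom.comp (str sC (φ w))) = CommRingCat.ofHom (str sB w) := by
    apply Spec.map_injective
    rw [SpecMap_str, CommRingCat.ofHom_comp, Spec.map_comp, SpecMap_str, CommRingCat.ofHom_hom]
    rw [← Category.assoc, Scheme.SpecMap_stalkMap_fromSpecStalk, Category.assoc, hφ]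
  exact congrArg CommRingCat.Hom.hom h

theorem bijective_residue [IsAlgClosed k] [LocallyOfFiniteType sC] (c : C) (hc : IsClosed ({c} : Set C)) :
    Function.Bijective ((C.residue c).hom.comp (str sC c)) := by
  have h : CommRingCat.ofHom ((C.residue c).hom.comp (str sC c)) = (residueFieldIsoBase sC c hc).inv := by
    apply Spec.map_injective
    rw [SpecMap_residueFieldIsoBase_inv, CommRingCat.ofHom_comp, Spec.map_comp, SpecMap_str, CommRingCat.ofHom_hom]
    rfl
  have h1 : Function.Bijective (residueFieldIsoBase sC c hc).inv.hom :=
    (residueFieldIsoBase sC c hc).symm.commRingCatIsoToRingEquiv.bijective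
  rw [← h] at h1
  exact h1

theorem surjective_residue [IsAlgClosed k] [LocallyOfFiniteType sC] (c : C) (hc : IsClosed ({c} : Set C)) :
    Function.Surjective ((residue (C.presheaf.stalk c)).comp (str sC c)) :=
  (bijective_residue sC c hc).surjective

end K823.BaseField
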