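import Groth.Agent.Surf.K823.Desing
import Groth.Agent.CycB.ImageInt
import Groth.Agent.RefCh.K939.SurfRes
import Groth.Agent.S1618

/-!
# Proper regular models of an open subscheme of a proper surface
-/

set_option autoImplicit false
universe u
open AlgebraicGeometry CategoryTheory CategoryTheory.Limits IsLocalRing TopologicalSpace

namespace K823.Clos

open Groth.Agent

/-- The scheme-theoretic closure of an open subscheme restricts to it. -/
theorem isIso_imageι_restrict {Y : Scheme.{u}} (W : Y.Opens) : IsIso (W.ι.imageι ∣_ W) := by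
  have h1 : IsPullback (W.ι.imageι ⁻¹ᵁ W).ι (W.ι.imageι ∣_ W) W.ι.imageι W.ι :=
    (isPullback_morphismRestrict W.ι.imageι W).flip
  let s : (W : Scheme.{u}) ⟶ (W.ι.imageι ⁻¹ᵁ W : Scheme.{u}) := h1.lift W.ι.toImage (𝟙 _) (by
    rw [Scheme.Hom.toImage_imageι, Category.id_comp])
  have h2 : s ≫ (W.ι.imageι ∣_ W) = 𝟙 _ := h1.lift_snd _ _ _
  have h3 : Mono (W.ι.imageι ∣_ W) := inferInstance
  refine ⟨s, ?_, h2⟩
  rw [← cancel_mono (W.ι.imageι ∣_ W), Category.assoc, h2, Category.comp_id, Category.id_comp]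

/-- The dimension of an integral scheme of finite type over a field is the dimension of its nonempty opens. -/
theorem dim_of_open {k : Type u} [Field k] {M W : Scheme.{u}} (s : M ⟶ Spec (CommRingCat.of k))
    [LocallyOfFiniteType s] [IsIntegral M] (V : M.Opens) (e : (V : Scheme.{u}) ≅ W) [Nonempty W] :
    topologicalKrullDim M = topologicalKrullDim W := by
  let _ : M.Over (Spec (CommRingCat.of k)) := ⟨s⟩
  have : LocallyOfFiniteType (M ↘ Spec (CommRingCat.of k)) := ‹LocallyOfFiniteType s›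
  have hV : (V : Set M).Nonempty := ⟨_, (e.inv (Classical.arbitrary W)).2⟩
  have h1 := Groth.Agent.S1618.result k M V hV
  rw [← h1]
  exact IsHomeomorph.topologicalKrullDim_eq _ e.hom.homeomorph.isHomeomorph

/-- **Regular models.** -/
theorem exists_model {k : Type u} [Field k] {Y : Scheme.{u}} (s : Y ⟶ Spec (CommRingCat.of k))
    [LocallyOfFiniteType s] [IsNoetherian Y] (W : Y.Opens) [IsIntegral W]
    (hd : topologicalKrullDim (W : Scheme.{u}) = 2)
    (hW : ∀ y ∈ W, IsRegularLocalRing (Y.presheaf.stalk y)) :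
    ∃ (M : Scheme.{u}) (r : M ⟶ Y), IsProper r ∧ IsIntegral M ∧ topologicalKrullDim M = 2 ∧
      (∀ x : M, IsRegularLocalRing (M.presheaf.stalk x)) ∧ IsIso (r ∣_ W) := by
  let Z := W.ι.image
  let i : Z ⟶ Y := W.ι.imageι
  have hexc := K939.SurfRes.isExc s
  have hqc : QuasiCompact W.ι := inferInstance
  have hZ : IsIntegral Z := CycB.ImageInt.isIntegral_image W.ι
  have hZl : IsLocallyNoetherian Z := LocallyOfFiniteType.isLocallyNoetherian i
  have hZc : CompactSpace Z := QuasiCompact.compactSpace_of_compactSpace i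
  have hZn : IsNoetherian Z := {}
  have hZe : K381.ExcSch.IsExc Z := hexc.of_locallyOfFiniteType i
  have hi : IsIso (i ∣_ W) := isIso_imageι_restrict W
  have hZd : topologicalKrullDim Z = 2 := by
    rw [← hd]
    exact dim_of_open (i ≫ s) (i ⁻¹ᵁ W) (asIso (i ∣_ W))
  obtain ⟨M, r, h1, h2, h3, h4⟩ := Desing.exists_desing hZe hZd.le
  have h5 : IsIso (r ∣_ (i ⁻¹ᵁ W)) := by
    refine h4 (i ⁻¹ᵁ W) fun z hz => ?_
    have h7 : IsIso (i.stalkMap z) := Dix.BirIso.isIso_stalkMap i W hi z hz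
    have := hW (i z) hz
    exact IsRegularLocalRing.of_ringEquiv (asIso (i.stalkMap z)).commRingCatIsoToRingEquiv
  refine ⟨M, r ≫ i, inferInstance, h2, ?_, h3, ?_⟩
  · rw [← hd]
    exact dim_of_open (r ≫ i ≫ s) (r ⁻¹ᵁ (i ⁻¹ᵁ W)) (asIso (r ∣_ (i ⁻¹ᵁ W)) ≪≫ asIso (i ∣_ W))
  · rw [morphismRestrict_comp]
    exact IsIso.comp_isIso' h5 hi

end K823.Clos
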