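import Groth.Agent.ArSurf.K479.CompMinus
import Groth.Agent.S1684
import Groth.Agent.S2821

/-!
# Regular models and exceptional curves: base change of the base which is an isomorphism over a closed point
-/

set_option autoImplicit false
universe u
open AlgebraicGeometry CategoryTheory CategoryTheory.Limits IsLocalRing TopologicalSpace

namespace K823.CompMin

open Groth.Agent Groth.Agent.Dix Groth.Agent.Dix.PointIdeal K479.CompBC K479.CompMinus K479.CompArith

variable {R : Type u} [CommRing R] [IsDomain R] [IsDiscreteValuationRing R] {κ : Type u} [Field κ] {π : R →+* κ}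
  (hπ : Function.Surjective π) {B M M' : Scheme.{u}} {g : Spec (CommRingCat.of R) ⟶ B} [Flat g]
  {c : Spec (CommRingCat.of κ) ⟶ B} [IsClosedImmersion c]
  (hpb : IsPullback (Spec.map (CommRingCat.ofHom π)) (𝟙 _) g c)
  {p : M ⟶ B} [IsProper p] {j : M' ⟶ M} {p' : M' ⟶ Spec (CommRingCat.of R)} (hM : IsPullback j p' p g)

include hπ hpb hM

omit [Flat g] in
theorem closed_point_bc (x' : M') (hx' : IsClosed ({x'} : Set M')) :
    IsClosed ({j x'} : Set M) ∧
      (maximalIdeal (M.presheaf.stalk (j x'))).map (j.stalkMap x').hom = maximalIdeal (M'.presheaf.stalk x') := by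
  have hprop : IsProper p' := MorphismProperty.of_isPullback (P := @IsProper) hM inferInstance
  have hker : RingHom.ker π = maximalIdeal R := eq_maximalIdeal (RingHom.ker_isMaximal_of_surjective π hπ)
  have h1 : p' x' = closedPoint R := by
    have h2 : IsClosed ({p' x'} : Set (Spec (CommRingCat.of R))) := by
      rw [← Set.image_singleton]
      exact p'.isClosedMap _ hx'
    exact PrimeSpectrum.ext (eq_maximalIdeal ((PrimeSpectrum.isClosed_singleton_iff_isMaximal _).1 h2))
  have hred : IsReduced (pt x' hx').subscheme := Ega1.ReducedSub.isReduced_subscheme_vanishingIdeal _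
  obtain ⟨b, hb⟩ := exists_factor π hπ ((pt x' hx').subschemeι ≫ p') (by
    intro z
    have h2 : (pt x' hx').subschemeι z ∈ Set.range (pt x' hx').subschemeι := ⟨z, rfl⟩
    rw [Scheme.IdealSheafData.range_subschemeι] at h2
    have h3 : (pt x' hx').subschemeι z = x' := (mem_support_pt x' hx' _).1 h2
    rw [Scheme.Hom.comp_apply, h3, h1, hker]
    rfl)
  exact closed_point hpb hM x' hx' b hb.symm

/-- The base change is regular. -/
theorem regular [IsLocallyNoetherian M] (hreg : ∀ x : M, IsRegularLocalRing (M.presheaf.stalk x)) (x : M') :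
    IsRegularLocalRing (M'.presheaf.stalk x) := by
  have hprop : IsProper p' := MorphismProperty.of_isPullback (P := @IsProper) hM inferInstance
  have hnoe' : IsLocallyNoetherian M' := LocallyOfFiniteType.isLocallyNoetherian p'
  have hcomp : CompactSpace M' := QuasiCompact.compactSpace_of_compactSpace p'
  have hfl : Flat j := MorphismProperty.of_isPullback (P := @Flat) hM.flip inferInstance
  obtain ⟨x', hy, hyc⟩ := exists_closed_specializes x
  refine S1597.isRegularLocalRing_of_specializes hy ?_
  obtain ⟨h1, h3⟩ := closed_point_bc hπ hpb hM x' hyc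
  have := hreg (j x')
  let _ := (j.stalkMap x').hom.toAlgebra
  have hloc : IsLocalHom (algebraMap (M.presheaf.stalk (j x')) (M'.presheaf.stalk x')) :=
    inferInstanceAs (IsLocalHom (j.stalkMap x').hom)
  have hflm : Module.Flat (M.presheaf.stalk (j x')) (M'.presheaf.stalk x') := Flat.stalkMap j x'
  exact Groth.Agent.CalgB.RegDer.isRegularLocalRing_of_flat_of_map_eq h3

omit hπ in
/-- Exceptional curves in the closed fibre of the base change come from exceptional curves. -/
theorem exc_of_bc [IsLocallyNoetherian M] (hreg : ∀ x : M, IsRegularLocalRing (M.presheaf.stalk x)) {P : Scheme.{u}}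
    [IsIntegral P] (i : P ⟶ M') [IsClosedImmersion i] (b : P ⟶ Spec (CommRingCat.of κ))
    (hb : i ≫ p' = b ≫ Spec.map (CommRingCat.ofHom π)) (hcod : ringKrullDim (M.presheaf.stalk (j (i (genericPoint P)))) = 1)
    (h : Models.IsExcCurve i) : IsClosedImmersion (i ≫ j) ∧ Models.IsExcCurve (i ≫ j) := by
  have hfl : Flat j := MorphismProperty.of_isPullback (P := @Flat) hM.flip inferInstance
  have hcl := isClosedImmersion_comp hpb hM i b hb
  have hp := isPullback_of_comp hpb hM i b hb
  have h1 : IsIntegral (i ≫ j).ker.subscheme := Models.H36.FibreFact.isIntegral_ker_subscheme (i ≫ j)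
  have heff : BlowUp.IsEffCartierIdeal (i ≫ j).ker := by
    refine Groth.Agent.S1684.result M (i ≫ j).ker ?_ ?_
    · rw [Models.H36.FibreFact.subschemeι_genericPoint]
      exact hcod
    · intro x _
      have := hreg x
      exact Groth.Agent.S2821.result _
  obtain ⟨e⟩ := nonempty_pullback_iso hp heff
  obtain ⟨-, k, _, e', ⟨e''⟩⟩ := h
  refine ⟨hcl, heff, k, inferInstance, e', ⟨?_⟩⟩
  exact (Scheme.Modules.pullbackComp e'.hom (i ≫ j)).symm.app _ ≪≫
    (Scheme.Modules.pullback e'.hom).mapIso e.symm ≪≫ (Scheme.Modules.pullbackComp e'.hom i).app _ ≪≫ e''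

/-- **Minimal models and base change.** -/
theorem isMinimalModel [IsLocallyNoetherian M] [Flat p] (hreg : ∀ x : M, IsRegularLocalRing (M.presheaf.stalk x))
    (hmin : ∀ (P : Scheme.{u}) (ι : P ⟶ M) [IsIntegral P] [IsClosedImmersion ι] (b : P ⟶ Spec (CommRingCat.of κ)),
      ι ≫ p = b ≫ c → (∃ x y : P, x ≠ y) → ringKrullDim (M.presheaf.stalk (ι (genericPoint P))) = 1 ∧ ¬ Models.IsExcCurve ι)
    {C : Scheme.{u}} {f : C ⟶ Spec (CommRingCat.of (FractionRing R))} {a : C ⟶ M}
    (hC : IsPullback a f p (Spec.map (CommRingCat.ofHom (algebraMap R (FractionRing R))) ≫ g)) :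
    Models.IsMinimalModel R M' p' C f := by
  have hprop : IsProper p' := MorphismProperty.of_isPullback (P := @IsProper) hM inferInstance
  have hflat : Flat p' := MorphismProperty.of_isPullback (P := @Flat) hM inferInstance
  have hw : Spec.map (CommRingCat.ofHom π) ≫ g = c := by simpa using hpb.w
  let a' : C ⟶ M' := hM.lift a (f ≫ Spec.map (CommRingCat.ofHom (algebraMap R (FractionRing R)))) (by
    rw [hC.w, Category.assoc])
  have ha' : IsPullback a' f p' (Spec.map (CommRingCat.ofHom (algebraMap R (FractionRing R)))) := by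
    refine IsPullback.of_right (h₁₂ := j) (h₂₂ := g) (v₁₃ := p) ?_ (hM.lift_snd _ _ _) hM
    rw [hM.lift_fst]
    exact hC
  refine ⟨⟨⟨inferInstance, inferInstance, inferInstance, a', ha'⟩, hprop, fun x => regular hπ hpb hM hreg x⟩, ?_⟩
  intro Γ hΓ
  obtain ⟨k, _, e, ⟨e'⟩⟩ := hΓ.2
  have hne : ∃ x y : Γ.curve.left, x ≠ y := by
    obtain ⟨x, y, hxy⟩ := MinimalUnique.exists_ne k
    exact ⟨e.hom x, e.hom y, fun h => hxy (e.hom.homeomorph.injective h)⟩
  have hker : RingHom.ker π = maximalIdeal R := eq_maximalIdeal (RingHom.ker_isMaximal_of_surjective π hπ)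
  obtain ⟨b, hb⟩ := exists_factor π hπ (Γ.ι ≫ p') (by
    intro x
    have h1 : (Γ.ι ≫ p') x = closedPoint R := by
      have h2 : Γ.ι ≫ p' = _ := Γ.w
      rw [h2, Scheme.Hom.comp_apply]
      exact PrimeSpectrum.comap_residue R (Γ.curve.hom x)
    rw [h1, hker]
    rfl)
  have hcl := isClosedImmersion_comp hpb hM Γ.ι b hb.symm
  have h2 : (Γ.ι ≫ j) ≫ p = b ≫ c := by
    rw [Category.assoc, hM.w, ← Category.assoc, ← hb, Category.assoc, hw]
  obtain ⟨h3, h4⟩ := hmin _ (Γ.ι ≫ j) b h2 hne
  exact h4 (exc_of_bc hpb hM hreg Γ.ι b hb.symm h3 hΓ).2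

end K823.CompMin
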