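import Groth.Agent.Ega41.PowEval
import Mathlib.RingTheory.DiscreteValuationRing.Basic
import Mathlib.RingTheory.Henselian
import Mathlib.RingTheory.PowerSeries.Inverse
import Mathlib.FieldTheory.IsAlgClosed.Basic
import Mathlib.RingTheory.AdicCompletion.LocalRing
import Mathlib.RingTheory.DiscreteValuationRing.TFAE
import Groth.Agent.S0549

/-!
# Extensions of discrete valuation rings with algebraically closed residue field of characteristic zero

`exists_hom`: let `A₀ ⟶ A`, `A₀ ⟶ B` be extensions of discrete valuation rings with the same coefficient field `k`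
(algebraically closed of characteristic zero), of ramification indices `m ∣ n`, `B` complete.  Then there is an
`A₀`-homomorphism `A ⟶ B`.
-/

set_option autoImplicit false
universe u

namespace K823.PuisExt

open IsLocalRing Groth.Agent.Ega41.PowEval

section root

variable {k : Type*} [Field k] {B : Type*} [CommRing B] [IsLocalRing B] [IsAdicComplete (maximalIdeal B) B]
  (σ : k →+* B) (hσ : Function.Surjective ((residue B).comp σ))

include hσ in
/-- Units have roots. -/
theorem exists_root [IsAlgClosed k] [CharZero k] {u : B} (hu : IsUnit u) {n : ℕ} (hn : n ≠ 0) :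
    ∃ v : B, v ^ n = u := by
  obtain ⟨c, hc⟩ := hσ (residue B u)
  obtain ⟨d, hd⟩ := IsAlgClosed.exists_pow_nat_eq c (Nat.pos_of_ne_zero hn)
  have hc0 : c ≠ 0 := by
    rintro rfl
    rw [map_zero] at hc
    exact (residue_ne_zero_iff_isUnit u).2 hu hc.symm
  have hd0 : d ≠ 0 := by
    rintro rfl
    rw [zero_pow hn] at hd
    exact hc0 hd.symm
  obtain ⟨v, hv, -⟩ := HenselianRing.is_henselian (I := maximalIdeal B) (Polynomial.X ^ n - Polynomial.C u)
    (Polynomial.monic_X_pow_sub_C u hn) (σ d) (by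
      rw [← residue_eq_zero_iff]
      simp only [Polynomial.eval_sub, Polynomial.eval_pow, Polynomial.eval_X, Polynomial.eval_C, map_sub, map_pow]
      rw [← hc, ← hd, RingHom.comp_apply, map_pow, map_pow, sub_self]) (by
      simp only [Polynomial.derivative_sub, Polynomial.derivative_X_pow, Polynomial.derivative_C, sub_zero,
        Polynomial.eval_mul, Polynomial.eval_C, Polynomial.eval_pow, Polynomial.eval_X]
      have h1 : IsUnit ((n : k) * d ^ (n - 1)) :=
        IsUnit.mk0 _ (mul_ne_zero (Nat.cast_ne_zero.2 hn) (pow_ne_zero _ hd0))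
      have h2 := (h1.map σ).map (Ideal.Quotient.mk (maximalIdeal B))
      simpa using h2)
  refine ⟨v, ?_⟩
  have := hv
  rw [Polynomial.IsRoot, Polynomial.eval_sub, Polynomial.eval_pow, Polynomial.eval_X, Polynomial.eval_C,
    sub_eq_zero] at this
  exact this

include hσ in
/-- Uniformizers with prescribed power. -/
theorem exists_uniformizer [IsAlgClosed k] [CharZero k] [IsDomain B] [IsDiscreteValuationRing B] {z : B} {n : ℕ}
    (hn : n ≠ 0) (hz : Ideal.span {z} = maximalIdeal B ^ n) : ∃ W : B, Irreducible W ∧ W ^ n = z := by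
  obtain ⟨ϖ, hϖ⟩ := IsDiscreteValuationRing.exists_irreducible B
  rw [hϖ.maximalIdeal_eq, Ideal.span_singleton_pow, Ideal.span_singleton_eq_span_singleton] at hz
  obtain ⟨u, hu⟩ := hz.symm
  obtain ⟨v, hv⟩ := exists_root σ hσ u.isUnit hn
  have hvu : IsUnit v := by
    have h1 : IsUnit (v ^ n) := by rw [hv]; exact u.isUnit
    exact (isUnit_pow_iff hn).1 h1
  refine ⟨ϖ * v, ?_, ?_⟩
  · obtain ⟨v', rfl⟩ := hvu
    exact (irreducible_mul_units v').2 hϖ
  · rw [mul_pow, hv, hu]

end root

section series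

variable {k : Type*} [Field k] {B : Type*} [CommRing B] [IsDomain B] [IsDiscreteValuationRing B]
  [IsAdicComplete (maximalIdeal B) B] [Algebra k B]

/-- Evaluation of power series. -/
noncomputable def ev (W : B) (hW : W ∈ maximalIdeal B) : PowerSeries k →ₐ[k] B :=
  powEval (σ := Unit) (maximalIdeal B) (fun _ => W) (fun _ => hW)

theorem ev_X (W : B) (hW : W ∈ maximalIdeal B) : ev (k := k) W hW PowerSeries.X = W :=
  powEval_X (σ := Unit) (maximalIdeal B) (fun _ => W) (fun _ => hW) ()

theorem ev_injective {W : B} (hW : W ∈ maximalIdeal B) (h0 : W ≠ 0) : Function.Injective (ev (k := k) W hW) := by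
  rw [injective_iff_map_eq_zero]
  intro f hf
  by_contra hne
  obtain ⟨u, hu⟩ : ∃ u : (PowerSeries k)ˣ, f = PowerSeries.X ^ f.order.toNat * (u : PowerSeries k) :=
    ⟨PowerSeries.Unit_of_divided_by_X_pow_order f, by
      rw [PowerSeries.Unit_of_divided_by_X_pow_order_nonzero hne]
      exact PowerSeries.X_pow_order_mul_divXPowOrder.symm⟩
  rw [hu, map_mul, map_pow, ev_X] at hf
  have h1 : IsUnit (ev (k := k) W hW (u : PowerSeries k)) := u.isUnit.map _
  rcases mul_eq_zero.1 hf with h | h
  · exact pow_ne_zero _ h0 h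
  · exact h1.ne_zero h

theorem ev_surjective (hk : Function.Surjective ((residue B).comp (algebraMap k B))) {W : B} (hW : Irreducible W)
    (hW' : W ∈ maximalIdeal B) : Function.Surjective (ev (k := k) W hW') := by
  have step : ∀ r : B, ∃ a : k, ∃ r' : B, r = algebraMap k B a + W * r' := by
    intro r
    obtain ⟨a, ha⟩ := hk (residue B r)
    have h1 : r - algebraMap k B a ∈ maximalIdeal B := by
      rw [← residue_eq_zero_iff, map_sub, ← ha, RingHom.comp_apply, sub_self]
    rw [hW.maximalIdeal_eq, Ideal.mem_span_singleton] at h1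
    obtain ⟨r', hr'⟩ := h1
    exact ⟨a, r', by rw [← hr']; ring⟩
  choose dg nx hs using step
  intro b
  let F : B → PowerSeries k := fun r => PowerSeries.mk fun n => dg (nx^[n] r)
  have hF : ∀ r, F r = PowerSeries.C (dg r) + PowerSeries.X * F (nx r) := by
    intro r
    ext n
    cases n with
    | zero => simp [F]
    | succ n =>
      rw [PowerSeries.coeff_mk, map_add, PowerSeries.coeff_C, PowerSeries.coeff_succ_X_mul, PowerSeries.coeff_mk,
        Function.iterate_succ_apply, if_neg (Nat.succ_ne_zero n), zero_add]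
  have hev : ∀ r, r - ev (k := k) W hW' (F r) = W * (nx r - ev (k := k) W hW' (F (nx r))) := by
    intro r
    have h1 : ev (k := k) W hW' (PowerSeries.C (dg r)) = algebraMap k B (dg r) :=
      (ev (k := k) W hW').commutes (dg r)
    conv_lhs => rw [hF r, map_add, map_mul, ev_X, h1]
    conv_lhs => arg 1; rw [hs r]
    ring
  have hdiv : ∀ (n : ℕ) (r : B), W ^ n ∣ r - ev (k := k) W hW' (F r) := by
    intro n
    induction n with
    | zero => intro r; simp
    | succ n ih =>
      intro r
      rw [hev r, pow_succ']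
      exact mul_dvd_mul_left W (ih (nx r))
  refine ⟨F b, ?_⟩
  symm
  rw [← sub_eq_zero]
  have h1 : ∀ n : ℕ, b - ev (k := k) W hW' (F b) ∈ maximalIdeal B ^ n := by
    intro n
    rw [hW.maximalIdeal_eq, Ideal.span_singleton_pow, Ideal.mem_span_singleton]
    exact hdiv n b
  have h2 := IsHausdorff.haus (I := maximalIdeal B) (M := B) inferInstance (b - ev (k := k) W hW' (F b))
  apply h2
  intro n
  rw [SModEq.zero, smul_eq_mul, Ideal.mul_top]
  exact h1 n

end series

section hom

/-- The completion of a discrete valuation ring. -/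
theorem exists_completion (A : Type u) [CommRing A] [IsDomain A] [IsDiscreteValuationRing A] :
    ∃ (B : Type u) (_ : CommRing B) (_ : IsDomain B) (_ : IsDiscreteValuationRing B) (_ : Algebra A B),
      IsAdicComplete (maximalIdeal B) B ∧ Nonempty (B ≃ₐ[A] AdicCompletion (maximalIdeal A) A) ∧
      Function.Injective (algebraMap A B) ∧ IsLocalHom (algebraMap A B) ∧
      (maximalIdeal A).map (algebraMap A B) = maximalIdeal B ∧
      Function.Surjective ((residue B).comp (algebraMap A B)) := by
  obtain ⟨h1, h2⟩ := (Groth.Agent.S0549.result A).1 ⟨inferInstance, inferInstance⟩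
  refine ⟨AdicCompletion (maximalIdeal A) A, inferInstance, h1, h2, inferInstance, ?_, ⟨AlgEquiv.refl⟩, ?_,
    ?_, ?_, ?_⟩
  · exact AdicCompletion.isAdicComplete_of_fg (maximalIdeal A).fg_of_isNoetherianRing
  · have h3 : IsHausdorff (maximalIdeal A) A := inferInstance
    have h4 := AdicCompletion.of_injective (I := maximalIdeal A) (M := A)
    exact h4
  · exact AdicCompletion.algebraMap_isLocalHom_of_fg (maximalIdeal A).fg_of_isNoetherianRing
  · exact (AdicCompletion.maximalIdeal_eq_map_of_fg (maximalIdeal A).fg_of_isNoetherianRing).symm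
  · intro x
    obtain ⟨y, hy⟩ := (AdicCompletion.residueField_map_bijective_of_fg
      (maximalIdeal A).fg_of_isNoetherianRing).2 x
    obtain ⟨z, rfl⟩ := residue_surjective y
    exact ⟨z, hy⟩

variable {k : Type u} [Field k] {A₀ A B : Type u} [CommRing A₀] [IsDomain A₀] [IsDiscreteValuationRing A₀]
  [CommRing A] [IsDomain A] [IsDiscreteValuationRing A]
  [CommRing B] [IsDomain B] [IsDiscreteValuationRing B]

/-- Uniqueness: homomorphisms from a discrete valuation ring with coefficient field to a complete one are determined by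
the values on the coefficient field and on a uniformizer. -/
theorem hom_ext (σ₀ : k →+* A₀) (hσ₀ : Function.Surjective ((residue A₀).comp σ₀)) {z : A₀} (hz : Irreducible z)
    (f g : A₀ →+* B) (hfz : f z ∈ maximalIdeal B) (h1 : f.comp σ₀ = g.comp σ₀) (h2 : f z = g z) : f = g := by
  have step : ∀ (n : ℕ) (a : A₀), f a - g a ∈ maximalIdeal B ^ n := by
    intro n
    induction n with
    | zero => intro a; rw [pow_zero, Ideal.one_eq_top]; trivial
    | succ n ih =>
      intro a
      obtain ⟨c, hc⟩ := hσ₀ (residue A₀ a)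
      have h3 : a - σ₀ c ∈ maximalIdeal A₀ := by
        rw [← residue_eq_zero_iff, map_sub, ← hc, RingHom.comp_apply, sub_self]
      rw [hz.maximalIdeal_eq, Ideal.mem_span_singleton] at h3
      obtain ⟨a', ha'⟩ := h3
      have h4 : a = σ₀ c + z * a' := by rw [← ha']; ring
      have h5 : f (σ₀ c) = g (σ₀ c) := RingHom.congr_fun h1 c
      have h6 : f a - g a = f z * (f a' - g a') := by
        rw [h4, map_add, map_add, map_mul, map_mul, h5, ← h2]; ring
      rw [h6, pow_succ']
      exact Ideal.mul_mem_mul hfz (ih a')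
  ext a
  rw [← sub_eq_zero]
  have h3 : ⨅ i : ℕ, maximalIdeal B ^ i = ⊥ := Ideal.iInf_pow_eq_bot_of_isLocalRing _ (IsLocalRing.maximalIdeal.isMaximal B).ne_top
  have h4 : f a - g a ∈ ⨅ i : ℕ, maximalIdeal B ^ i := by
    rw [Submodule.mem_iInf]
    intro n
    exact step n a
  rw [h3] at h4
  exact h4

/-- **Abhyankar–Puiseux.** -/
theorem exists_hom [IsAlgClosed k] [CharZero k] [IsAdicComplete (maximalIdeal B) B]
    (σ₀ : k →+* A₀) (hσ₀ : Function.Surjective ((residue A₀).comp σ₀))
    (φ : A₀ →+* A) (hσA : Function.Surjective ((residue A).comp (φ.comp σ₀)))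
    (ψ : A₀ →+* B) (hσB : Function.Surjective ((residue B).comp (ψ.comp σ₀)))
    {m n : ℕ} (hm : m ≠ 0) (hn : n ≠ 0) (hmn : m ∣ n)
    (hA : (maximalIdeal A₀).map φ = maximalIdeal A ^ m) (hB : (maximalIdeal A₀).map ψ = maximalIdeal B ^ n) :
    ∃ χ : A →+* B, Function.Injective χ ∧ IsLocalHom χ ∧ χ.comp φ = ψ := by
  obtain ⟨z, hz⟩ := IsDiscreteValuationRing.exists_irreducible A₀
  obtain ⟨C, _, _, _, _, hC1, -, hC2, hC3, hC4, hC5⟩ := exists_completion A
  obtain ⟨d, rfl⟩ := hmn
  have hd : d ≠ 0 := by rintro rfl; simp at hn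
  have hzφ : Ideal.span {φ z} = maximalIdeal A ^ m := by
    rw [← hA, hz.maximalIdeal_eq, Ideal.map_span, Set.image_singleton]
  have hzψ : Ideal.span {ψ z} = maximalIdeal B ^ (m * d) := by
    rw [← hB, hz.maximalIdeal_eq, Ideal.map_span, Set.image_singleton]
  have hzC : Ideal.span {algebraMap A C (φ z)} = maximalIdeal C ^ m := by
    rw [← hC4, ← Ideal.map_pow, ← hzφ, Ideal.map_span, Set.image_singleton]
  have hσC : Function.Surjective ((residue C).comp ((algebraMap A C).comp (φ.comp σ₀))) := by
    intro x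
    obtain ⟨y, rfl⟩ := hC5 x
    obtain ⟨c, hc⟩ := hσA (residue A y)
    refine ⟨c, ?_⟩
    have h1 : φ (σ₀ c) - y ∈ maximalIdeal A := by
      rw [← residue_eq_zero_iff, map_sub, ← hc, RingHom.comp_apply, RingHom.comp_apply, sub_self]
    have h2 : algebraMap A C (φ (σ₀ c) - y) ∈ maximalIdeal C := by
      rw [← hC4]; exact Ideal.mem_map_of_mem _ h1
    rw [← residue_eq_zero_iff, map_sub, map_sub, sub_eq_zero] at h2
    exact h2
  obtain ⟨W, hW, hWm⟩ := exists_uniformizer ((algebraMap A C).comp (φ.comp σ₀)) hσC hm hzC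
  obtain ⟨V, hV, hVn⟩ := exists_uniformizer (ψ.comp σ₀) hσB hn hzψ
  let aC : Algebra k C := ((algebraMap A C).comp (φ.comp σ₀)).toAlgebra
  let aB : Algebra k B := (ψ.comp σ₀).toAlgebra
  have hW' : W ∈ maximalIdeal C := by rw [hW.maximalIdeal_eq]; exact Ideal.mem_span_singleton_self W
  have hV' : V ∈ maximalIdeal B := by rw [hV.maximalIdeal_eq]; exact Ideal.mem_span_singleton_self V
  have hVd : V ^ d ∈ maximalIdeal B := Ideal.pow_mem_of_mem _ hV' d (Nat.pos_of_ne_zero hd)
  let e : PowerSeries k ≃ₐ[k] C := AlgEquiv.ofBijective (ev W hW') ⟨ev_injective hW' hW.ne_zero,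
    ev_surjective hσC hW hW'⟩
  let ρ : PowerSeries k →ₐ[k] B := ev (V ^ d) hVd
  let χ₁ : C →ₐ[k] B := ρ.comp e.symm.toAlgHom
  have hχW : χ₁ W = V ^ d := by
    have h1 : e.symm W = PowerSeries.X := by
      rw [AlgEquiv.symm_apply_eq]
      exact (ev_X W hW').symm
    change ρ (e.symm W) = _
    rw [h1]
    exact ev_X (V ^ d) hVd
  have hχinj : Function.Injective χ₁ := (ev_injective hVd (pow_ne_zero _ hV.ne_zero)).comp e.symm.injective
  have hχz : χ₁ (algebraMap A C (φ z)) = ψ z := by
    rw [← hWm, map_pow, hχW, ← pow_mul, mul_comm d m, hVn]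
  have hχk : ∀ c : k, χ₁ (algebraMap A C (φ (σ₀ c))) = ψ (σ₀ c) := fun c => χ₁.commutes c
  refine ⟨χ₁.toRingHom.comp (algebraMap A C), hχinj.comp hC2, ?_, ?_⟩
  · apply ((IsLocalRing.local_hom_TFAE _).out 0 2).mpr
    rw [← Ideal.map_map, hC4, hW.maximalIdeal_eq, Ideal.map_span, Set.image_singleton,
      Ideal.span_singleton_le_iff_mem]
    change χ₁ W ∈ _
    rw [hχW]; exact hVd
  · refine hom_ext σ₀ hσ₀ hz _ _ ?_ ?_ ?_
    · change χ₁ (algebraMap A C (φ z)) ∈ _
      rw [hχz, hVn.symm]
      exact Ideal.pow_mem_of_mem _ hV' _ (Nat.pos_of_ne_zero hn)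
    · ext c; exact hχk c
    · exact hχz

end hom

end K823.PuisExt
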