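import Groth.Agent.ArSurf.K479.CompBC
import Groth.Agent.PerfA.StalkPush
import Groth.Agent.Surf.K823.PuisExt

/-!
# The completion of the local ring of a curve at a point
-/

set_option autoImplicit false
universe u
open AlgebraicGeometry CategoryTheory CategoryTheory.Limits IsLocalRing TopologicalSpace

namespace K823.CompPt

open Groth.Agent

/-- A morphism over a monomorphism. -/
theorem isPullback_of_mono {C : Type*} [Category* C] {T S' S : C} (c' : T ⟶ S') (g : S' ⟶ S) [Mono g] :
    IsPullback c' (𝟙 T) g (c' ≫ g) := by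
  refine ⟨⟨by simp⟩, ⟨PullbackCone.IsLimit.mk _ (fun s => s.snd) (fun s => ?_) (fun s => by simp) ?_⟩⟩
  · rw [← cancel_mono g, Category.assoc, s.condition]
  · intro s m _ hm
    simpa using hm

/-- The completion of a discrete valuation ring `O_{B, w}`. -/
theorem exists_completion {B : Scheme.{u}} (w : B) [IsDomain (B.presheaf.stalk w)]
    [IsDiscreteValuationRing (B.presheaf.stalk w)] :
    ∃ (A : Type u) (_ : CommRing A) (_ : IsDomain A) (_ : IsDiscreteValuationRing A)
      (α : B.presheaf.stalk w →+* A) (π : A →+* B.residueField w), IsAdicComplete (maximalIdeal A) A ∧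
      Function.Injective α ∧ (maximalIdeal (B.presheaf.stalk w)).map α = maximalIdeal A ∧
      Function.Surjective ((residue A).comp α) ∧ Function.Surjective π ∧
      Flat (Spec.map (CommRingCat.ofHom α) ≫ B.fromSpecStalk w) ∧
      IsPullback (Spec.map (CommRingCat.ofHom π)) (𝟙 _) (Spec.map (CommRingCat.ofHom α) ≫ B.fromSpecStalk w)
        (B.fromSpecResidueField w) := by
  obtain ⟨A, _, _, _, _, h1, ⟨e⟩, h3, h4, h5, h6⟩ := PuisExt.exists_completion (B.presheaf.stalk w)
  obtain ⟨π, hπ, -, -, hpb⟩ := K479.CompBC.exists_residue e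
  refine ⟨A, inferInstance, inferInstance, inferInstance, algebraMap _ A, π, h1, h3, h5, h6, hπ, ?_, ?_⟩
  · have h7 := K479.CompBC.flat_of_completion e
    have h8 : Flat (Spec.map (CommRingCat.ofHom (algebraMap (B.presheaf.stalk w) A))) := by
      rw [HasRingHomProperty.Spec_iff (P := @Flat)]
      exact (RingHom.flat_algebraMap_iff (R := B.presheaf.stalk w) (S := A)).2 h7
    have h9 : Flat (B.fromSpecStalk w) := PerfA.StalkPush.flat_fromSpecStalk w
    exact MorphismProperty.comp_mem _ _ _ h8 h9
  · have h7 : IsPullback (Spec.map (B.residue w)) (𝟙 _) (B.fromSpecStalk w) (B.fromSpecResidueField w) :=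
      isPullback_of_mono (Spec.map (B.residue w)) (B.fromSpecStalk w)
    have h8 := hpb.flip.paste_horiz h7.flip
    change IsPullback (𝟙 (Spec (B.residueField w)) ≫ 𝟙 (Spec (B.residueField w))) _ _ _ at h8
    rw [Category.comp_id] at h8
    exact h8.flip

end K823.CompPt
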