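import Groth.Agent.Models.K381.ExcSch
import Groth.Agent.Flat2C.BlowProper
import Groth.Agent.Flat2C.BlowExist
import Groth.Agent.S2348
import Groth.Agent.S2351
import Groth.Agent.S9829
import Groth.Agent.CurvesC.NormNagata
import Groth.Agent.Resolve.K377.NormSch
import Groth.Agent.Sga3C.DimTop
import Groth.Agent.Dix.ContractSurf
import Groth.Agent.Models.K381.ResModel
import Groth.Agent.Dix.BirIso

/-!
# Desingularization of integral excellent surfaces, an isomorphism over the regular locus
-/

set_option autoImplicit false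
universe u
open AlgebraicGeometry CategoryTheory CategoryTheory.Limits IsLocalRing TopologicalSpace

namespace K823.Desing

open Groth.Agent

/-- An integral scheme has integrally closed sections over affine opens with integrally closed stalks. -/
theorem isIntegrallyClosed_of_isAffineOpen {X : Scheme.{u}} [IsIntegral X] {V : X.Opens} (hV : IsAffineOpen V)
    (hne : Nonempty V) (hX : ∀ x ∈ V, IsIntegrallyClosed (X.presheaf.stalk x)) : IsIntegrallyClosed Γ(X, V) := by
  have : IsDomain Γ(X, V) := inferInstance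
  refine IsIntegrallyClosed.of_localization_maximal fun p _ hp => ?_
  let y : PrimeSpectrum Γ(X, V) := ⟨p, hp.isPrime⟩
  have hy : hV.fromSpec y ∈ V := (hV.isoSpec.inv y).2
  let _ : Algebra Γ(X, V) (X.presheaf.stalk (hV.fromSpec y)) :=
    TopCat.Presheaf.algebra_section_stalk X.presheaf ⟨hV.fromSpec y, hy⟩
  have h1 : IsLocalization.AtPrime (X.presheaf.stalk (hV.fromSpec y)) p :=
    hV.isLocalization_stalk' y hy
  have h2 : IsIntegrallyClosed (X.presheaf.stalk (hV.fromSpec y)) := hX _ hy
  exact IsIntegrallyClosed.of_equiv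
    (IsLocalization.algEquiv p.primeCompl (X.presheaf.stalk (hV.fromSpec y)) (Localization.AtPrime p)).toRingEquiv

/-- The normalization is an isomorphism over the regular opens. -/
theorem isIso_normalizationι_of_regular (X : Scheme.{u}) [IsIntegral X]
    [QuasiCompact (X.fromSpecStalk (genericPoint X))] [QuasiSeparated (X.fromSpecStalk (genericPoint X))]
    (U : X.Opens) (hU : ∀ x ∈ U, IsRegularLocalRing (X.presheaf.stalk x)) : IsIso (Curv2.normalizationι X ∣_ U) := by
  refine K377.NormSch.isIso_restrict_of_local _ U fun x hx => ?_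
  obtain ⟨V, hV, hxV, hVU⟩ := exists_isAffineOpen_mem_and_subset (X := X) (x := x) (U := U) hx
  refine ⟨V, hxV, hVU, ?_⟩
  refine CurvesC.NormNagata.isIso_normalizationι_restrict X V hV
    (((genericPoint_spec X).mem_open_set_iff V.isOpen).mpr (by simpa using ⟨x, hxV⟩)) ?_
  refine isIntegrallyClosed_of_isAffineOpen hV ⟨⟨x, hxV⟩⟩ fun y hy => ?_
  have := hU y (hVU hy)
  exact Groth.Agent.S9829.result _

/-- **Desingularization**, an isomorphism over the regular locus. -/
theorem exists_desing {Y : Scheme.{u}} [IsIntegral Y] [IsNoetherian Y] (hexc : K381.ExcSch.IsExc Y)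
    (hd : topologicalKrullDim Y ≤ 2) :
    ∃ (M : Scheme.{u}) (r : M ⟶ Y), IsProper r ∧ IsIntegral M ∧
      (∀ x : M, IsRegularLocalRing (M.presheaf.stalk x)) ∧
      ∀ V : Y.Opens, (∀ y ∈ V, IsRegularLocalRing (Y.presheaf.stalk y)) → IsIso (r ∣_ V) := by
  have hqc : QuasiCompact (Y.fromSpecStalk (genericPoint Y)) := K262.GenExt.quasiCompact_fromSpecStalk Y
  let ν := Curv2.normalizationι Y
  have hfin : IsFinite ν := K375.NagSch.isFinite_normalizationι Y hexc.isNag
  obtain ⟨hNi, hNn, hsurj, -⟩ := Groth.Agent.S2351.result Y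
  have hNlN : IsLocallyNoetherian (Curv2.normalization Y) := LocallyOfFiniteType.isLocallyNoetherian ν
  have hNc : CompactSpace (Curv2.normalization Y) := QuasiCompact.compactSpace_of_compactSpace ν
  have hNN : IsNoetherian (Curv2.normalization Y) := {}
  have hNe : K381.ExcSch.IsExc (Curv2.normalization Y) := hexc.of_locallyOfFiniteType ν
  have hNd : ∀ m : Curv2.normalization Y, ringKrullDim ((Curv2.normalization Y).presheaf.stalk m) ≤ 2 := fun m => by
    have h1 : Surjective ν := hsurj
    refine le_trans ?_ hd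
    rw [← Sga3C.DimTop.topologicalKrullDim_eq_of_isIntegralHom ν, Dix.ContractSurf.topologicalKrullDim_eq]
    exact le_iSup (fun x : Curv2.normalization Y => ringKrullDim ((Curv2.normalization Y).presheaf.stalk x)) m
  obtain ⟨𝓘, h1, h2⟩ := hNe.exists_ideal hNn hNd
  obtain ⟨M, b, hb⟩ := Groth.Agent.Flat2C.BlowExist.exists_isBlowUp (𝓘 := 𝓘)
  obtain ⟨h3, h4⟩ := h2 M b hb
  have hbp : IsProper b := Groth.Agent.Flat2C.BlowProper.isProper_of_isBlowUp hb (K381.ResModel.isFiniteTypeIdeal 𝓘)
  have hI : 𝓘 ≠ ⊥ := by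
    rintro rfl
    refine h1 (genericPoint (Curv2.normalization Y)) ?_ ?_
    · rw [Scheme.IdealSheafData.support_bot]; trivial
    · have : IsField ((Curv2.normalization Y).presheaf.stalk (genericPoint (Curv2.normalization Y))) :=
        Field.toIsField (Curv2.normalization Y).functionField
      let _ := this.toField
      exact inferInstance
  obtain ⟨hM, -, -⟩ := Groth.Agent.S2348.result 𝓘 hI b hb
  refine ⟨M, b ≫ ν, inferInstance, hM, h4, ?_⟩
  intro V hV
  have h5 : IsIso (ν ∣_ V) := isIso_normalizationι_of_regular Y V hV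
  have h6 : IsIso (b ∣_ (ν ⁻¹ᵁ V)) := by
    refine h3 (ν ⁻¹ᵁ V) fun x hx => ?_
    have h7 : IsIso (ν.stalkMap x) := Dix.BirIso.isIso_stalkMap ν V h5 x hx
    have := hV (ν x) hx
    exact IsRegularLocalRing.of_ringEquiv (asIso (ν.stalkMap x)).commRingCatIsoToRingEquiv
  rw [morphismRestrict_comp]
  exact IsIso.comp_isIso' h6 h5

end K823.Desing
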