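import Groth.Prelude.Def_ModelsG
import Mathlib.RingTheory.DiscreteValuationRing.Basic
import Mathlib.RingTheory.Polynomial.Content
import Mathlib.RingTheory.Localization.Integral
import Mathlib.FieldTheory.IsAlgClosed.Basic
import Mathlib.RingTheory.PrincipalIdealDomain

/-!
# Residue fields of finite extensions of discrete valuation rings
-/

set_option autoImplicit false
universe u

namespace K823.DvrRes

open IsLocalRing Polynomial

variable {R R' : Type u} [CommRing R] [IsDomain R] [IsDiscreteValuationRing R] [CommRing R'] [IsDomain R']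
  [IsDiscreteValuationRing R']

/-- Algebraic elements satisfy an equation with a unit among its coefficients. -/
theorem exists_eval₂ (φ : R →+* R') (ψ : FractionRing R →+* FractionRing R')
    (h : ψ.comp (algebraMap R (FractionRing R)) = (algebraMap R' (FractionRing R')).comp φ)
    (hfin : Models.IsFiniteSeparable ψ) (x : R') :
    ∃ q : R[X], (∃ n, IsUnit (q.coeff n)) ∧ q.eval₂ φ x = 0 := by
  let _ : NormalizedGCDMonoid R := Classical.choice inferInstance
  let _ := ψ.toAlgebra
  obtain ⟨h1, h2⟩ := hfin
  have halg : IsAlgebraic (FractionRing R) (algebraMap R' (FractionRing R') x) := Algebra.IsAlgebraic.isAlgebraic _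
  obtain ⟨p, hp, hpx⟩ := halg
  obtain ⟨b, hb, hbq⟩ := IsLocalization.integerNormalization_spec (nonZeroDivisors R) p
  set q := IsLocalization.integerNormalization (nonZeroDivisors R) p with hq
  have hb0 : b ≠ 0 := nonZeroDivisors.ne_zero hb
  have hq0 : q ≠ 0 := by
    intro h0
    rw [h0, Polynomial.map_zero] at hbq
    have h3 : (b : R) • p = 0 := hbq.symm
    rcases smul_eq_zero.1 h3 with h4 | h4
    · exact hb0 h4
    · exact hp h4
  have hqx : q.eval₂ φ x = 0 := by
    apply IsFractionRing.injective R' (FractionRing R')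
    rw [map_zero, Polynomial.hom_eval₂, ← h, ← Polynomial.eval₂_map, hbq]
    have h5 : (p.eval₂ ψ (algebraMap R' (FractionRing R') x)) = 0 := hpx
    have h6 : (b • p : (FractionRing R)[X]) = C (algebraMap R (FractionRing R) b) * p := by
      rw [← Polynomial.smul_eq_C_mul]
      exact (algebraMap_smul (FractionRing R) b p).symm
    rw [h6, Polynomial.eval₂_mul, h5, mul_zero]
  refine ⟨q.primPart, ?_, ?_⟩
  · by_contra hcon
    push Not at hcon
    obtain ⟨t, ht⟩ := IsDiscreteValuationRing.exists_irreducible R
    have h7 : C t ∣ q.primPart := by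
      rw [Polynomial.C_dvd_iff_dvd_coeff]
      intro n
      rw [← Ideal.mem_span_singleton, ← ht.maximalIdeal_eq, mem_maximalIdeal, mem_nonunits_iff]
      exact hcon n
    exact ht.not_isUnit ((Polynomial.isPrimitive_primPart q) t h7)
  · have h8 := q.eq_C_content_mul_primPart
    rw [h8, Polynomial.eval₂_mul, Polynomial.eval₂_C] at hqx
    rcases mul_eq_zero.1 hqx with h9 | h9
    · exfalso
      have h10 : Function.Injective φ := by
        have h11 : Function.Injective (ψ.comp (algebraMap R (FractionRing R))) :=
          ψ.injective.comp (IsFractionRing.injective R (FractionRing R))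
        rw [h] at h11
        exact Function.Injective.of_comp (f := algebraMap R' (FractionRing R')) h11
      rw [map_eq_zero_iff φ h10, Polynomial.content_eq_zero_iff] at h9
      exact hq0 h9
    · exact h9

/-- Over an algebraically closed coefficient field there is no residue extension. -/
theorem surjective_residue {k : Type u} [Field k] [IsAlgClosed k] (σ : k →+* R)
    (hσ : Function.Surjective ((residue R).comp σ)) (φ : R →+* R') (hφ : Models.IsDVRExtension R φ)
    (ψ : FractionRing R →+* FractionRing R')
    (h : ψ.comp (algebraMap R (FractionRing R)) = (algebraMap R' (FractionRing R')).comp φ)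
    (hfin : Models.IsFiniteSeparable ψ) : Function.Surjective ((residue R').comp (φ.comp σ)) := by
  have := hφ.2
  intro y
  obtain ⟨x, rfl⟩ := residue_surjective y
  obtain ⟨q, ⟨n, hn⟩, hx⟩ := exists_eval₂ φ ψ h hfin x
  let ρ : k ≃+* ResidueField R := RingEquiv.ofBijective ((residue R).comp σ) ⟨RingHom.injective _, hσ⟩
  let Q : k[X] := (q.map (residue R)).map (ρ.symm : ResidueField R →+* k)
  have hQ : Q ≠ 0 := by
    intro h0
    have h1 : Q.coeff n = 0 := by rw [h0, Polynomial.coeff_zero]
    rw [Polynomial.coeff_map, Polynomial.coeff_map] at h1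
    have h2 : residue R (q.coeff n) = 0 := by
      have := (map_eq_zero_iff (ρ.symm : ResidueField R →+* k) ρ.symm.injective).1 h1
      exact this
    exact (residue_ne_zero_iff_isUnit _).2 hn h2
  have hres : (residue R').comp φ = (ResidueField.map φ).comp (residue R) := by
    ext a; rfl
  have hQx : Q.eval₂ ((residue R').comp (φ.comp σ)) (residue R' x) = 0 := by
    have h3 : ((residue R').comp (φ.comp σ)).comp (ρ.symm : ResidueField R →+* k) = ResidueField.map φ := by
      ext z
      obtain ⟨c, rfl⟩ := ρ.surjective z
      rw [RingHom.comp_apply, RingHom.coe_coe, ρ.symm_apply_apply]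
      rfl
    rw [Polynomial.eval₂_map, Polynomial.eval₂_map, h3, ← hres, ← Polynomial.hom_eval₂, hx, map_zero]
  let _ : Algebra k (ResidueField R') := ((residue R').comp (φ.comp σ)).toAlgebra
  have halg : IsAlgebraic k (residue R' x) := ⟨Q, hQ, hQx⟩
  exact minpoly.mem_range_of_degree_eq_one k (residue R' x)
    (IsAlgClosed.degree_eq_one_of_irreducible k (minpoly.irreducible halg.isIntegral))

/-- The ramification index. -/
theorem exists_ramification (φ : R →+* R') (hφ : Models.IsDVRExtension R φ) :
    ∃ m : ℕ, m ≠ 0 ∧ (maximalIdeal R).map φ = maximalIdeal R' ^ m := by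
  obtain ⟨hinj, hloc⟩ := hφ
  obtain ⟨t, ht⟩ := IsDiscreteValuationRing.exists_irreducible R
  obtain ⟨ϖ, hϖ⟩ := IsDiscreteValuationRing.exists_irreducible R'
  have h0 : φ t ≠ 0 := by
    rw [Ne, map_eq_zero_iff φ hinj]; exact ht.ne_zero
  obtain ⟨m, u, hu⟩ := IsDiscreteValuationRing.eq_unit_mul_pow_irreducible h0 hϖ
  refine ⟨m, ?_, ?_⟩
  · rintro rfl
    rw [pow_zero, mul_one] at hu
    have h1 : IsUnit (φ t) := by rw [hu]; exact u.isUnit
    exact ht.not_isUnit (isUnit_of_map_unit φ t h1)
  · rw [ht.maximalIdeal_eq, Ideal.map_span, Set.image_singleton, hu, hϖ.maximalIdeal_eq,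
      Ideal.span_singleton_pow, Ideal.span_singleton_mul_left_unit u.isUnit]

end K823.DvrRes
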