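import Mathlib.AlgebraicGeometry.AlgClosed.Basic
import Mathlib.AlgebraicGeometry.Fiber
import Mathlib.AlgebraicGeometry.Restrict

/-!
# Fibres over rational points
-/

set_option autoImplicit false
universe u
open CategoryTheory CategoryTheory.Limits AlgebraicGeometry TopologicalSpace

namespace K823.FibPt

/-- Base change of a pullback square along a factorization. -/
theorem exists_isPullback {T S B M P Y : Scheme.{u}} {p : M ⟶ B} {a : P ⟶ M} {f : P ⟶ T}
    {c : T ⟶ B} (h : IsPullback a f p c) {g : S ⟶ B} {a' : Y ⟶ M} {f' : Y ⟶ S} (h' : IsPullback a' f' p g)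
    {i : T ⟶ S} (hi : i ≫ g = c) : ∃ j : P ⟶ Y, IsPullback j f f' i := by
  subst hi
  exact ⟨h'.lift a (f ≫ i) (by rw [Category.assoc]; exact h.w), IsPullback.of_right (by
    rw [h'.lift_fst]; exact h) (h'.lift_snd _ _ _) h'⟩

variable {k : Type u} [Field k] [IsAlgClosed k]

/-- The fibre over a closed point is the base change along the corresponding rational point. -/
theorem isPullback_pt {C X : Scheme.{u}} (sC : C ⟶ Spec (CommRingCat.of k)) [LocallyOfFiniteType sC] (f : X ⟶ C)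
    {c : C} (hc : IsClosed ({c} : Set C)) :
    IsPullback (f.fiberι c) (f.fiberι c ≫ f ≫ sC) f (pointOfClosedPoint sC c hc) := by
  have h : IsPullback (f.fiberι c) (f.fiberToSpecResidueField c) f (C.fromSpecResidueField c) :=
    IsPullback.of_hasPullback _ _
  refine IsPullback.of_iso h (Iso.refl _) (Iso.refl _) (asIso (Spec.map (residueFieldIsoBase sC c hc).inv))
    (Iso.refl _) (by simp) ?_ (by simp) ?_
  · simp only [Iso.refl_hom, Category.id_comp, asIso_hom]
    rw [← Category.assoc (f.fiberι c), h.w, Category.assoc, SpecMap_residueFieldIsoBase_inv]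
  · simp only [Iso.refl_hom, Category.comp_id, asIso_hom, pointOfClosedPoint]
    rw [← Category.assoc, ← Spec.map_comp, Iso.hom_inv_id, Spec.map_id, Category.id_comp]

theorem pt_comp {B C : Scheme.{u}} (sB : B ⟶ Spec (CommRingCat.of k)) [LocallyOfFiniteType sB]
    (sC : C ⟶ Spec (CommRingCat.of k)) [LocallyOfFiniteType sC] (φ : B ⟶ C) (hφ : φ ≫ sC = sB) {w : B}
    (hw : IsClosed ({w} : Set B)) (hc : IsClosed ({φ w} : Set C)) :
    pointOfClosedPoint sB w hw ≫ φ = pointOfClosedPoint sC (φ w) hc := by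
  refine ext_of_apply_closedPoint_eq sC ?_ ?_ ?_
  · rw [Category.assoc, hφ, pointOfClosedPoint_comp]
  · rw [pointOfClosedPoint_comp]
  · rw [Scheme.Hom.comp_apply, pointOfClosedPoint_apply, pointOfClosedPoint_apply]

/-- Fibres of families which are isomorphic over an open subset. -/
theorem exists_iso_fiber {B C M X : Scheme.{u}} (sB : B ⟶ Spec (CommRingCat.of k)) [LocallyOfFiniteType sB]
    (sC : C ⟶ Spec (CommRingCat.of k)) [LocallyOfFiniteType sC] (φ : B ⟶ C) (hφ : φ ≫ sC = sB)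
    (f : X ⟶ C) (p : M ⟶ B) {Y : Scheme.{u}} {a : Y ⟶ X} {f' : Y ⟶ B} (hY : IsPullback a f' f φ) (U : B.Opens)
    (e : (p ⁻¹ᵁ U : Scheme.{u}) ≅ (f' ⁻¹ᵁ U : Scheme.{u})) (he : e.hom ≫ (f' ∣_ U) = p ∣_ U) {w : B} (hwU : w ∈ U)
    (hw : IsClosed ({w} : Set B)) (hc : IsClosed ({φ w} : Set C)) :
    ∃ e : p.fiber w ≅ f.fiber (φ w), e.hom ≫ f.fiberι (φ w) ≫ f ≫ sC = p.fiberι w ≫ p ≫ sB := by
  have h1 := isPullback_pt sC f hc
  obtain ⟨j, hj⟩ := exists_isPullback h1 hY (pt_comp sB sC φ hφ hw hc)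
  have h2 : Set.range (pointOfClosedPoint sB w hw) ⊆ Set.range U.ι := by
    rintro _ ⟨x, rfl⟩
    rw [pointOfClosedPoint_apply]
    exact ⟨⟨w, hwU⟩, rfl⟩
  have h3 : IsOpenImmersion.lift U.ι (pointOfClosedPoint sB w hw) h2 ≫ U.ι = pointOfClosedPoint sB w hw :=
    IsOpenImmersion.lift_fac _ _ _
  obtain ⟨j', hj'⟩ := exists_isPullback hj (isPullback_morphismRestrict f' U).flip h3
  have h4 : IsPullback (j' ≫ e.inv) (f.fiberι (φ w) ≫ f ≫ sC) (p ∣_ U) (IsOpenImmersion.lift U.ι (pointOfClosedPoint sB w hw) h2) := by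
    refine IsPullback.of_iso hj' (Iso.refl _) e.symm (Iso.refl _) (Iso.refl _) (by simp) (by simp) ?_ (by simp)
    rw [Iso.symm_hom, Iso.refl_hom, Category.comp_id, Iso.eq_inv_comp, he]
  have h5 := h4.paste_horiz (isPullback_morphismRestrict p U).flip
  rw [h3] at h5
  have h6 := isPullback_pt sB p hw
  exact ⟨h6.isoIsPullback _ _ h5, by simp⟩

/-- Fibres of a product family. -/
theorem exists_iso_of_product {B M F : Scheme.{u}} (sB : B ⟶ Spec (CommRingCat.of k)) [LocallyOfFiniteType sB]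
    (q : F ⟶ Spec (CommRingCat.of k)) (p : M ⟶ B) (e : M ≅ pullback q sB) (he : e.hom ≫ pullback.snd q sB = p) {w : B}
    (hw : IsClosed ({w} : Set B)) : ∃ e : p.fiber w ≅ F, e.hom ≫ q = p.fiberι w ≫ p ≫ sB := by
  have h1 := isPullback_pt sB p hw
  have h2 : IsPullback (e.hom ≫ pullback.fst q sB) p q sB :=
    IsPullback.of_iso (IsPullback.of_hasPullback q sB) e.symm (Iso.refl _) (Iso.refl _) (Iso.refl _) (by simp)
      (by simp [← he]) (by simp) (by simp)
  have h3 := h1.paste_horiz h2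
  have h4 : IsIso (p.fiberι w ≫ e.hom ≫ pullback.fst q sB) := by
    have h5 : IsPullback (p.fiberι w ≫ e.hom ≫ pullback.fst q sB) (p.fiberι w ≫ p ≫ sB) q (𝟙 _) := by
      have h6 := h3
      rw [pointOfClosedPoint_comp] at h6
      exact h6
    exact h5.isIso_fst_of_isIso
  refine ⟨asIso (p.fiberι w ≫ e.hom ≫ pullback.fst q sB), ?_⟩
  simp only [asIso_hom, Category.assoc]
  rw [pullback.condition, ← he, Category.assoc]

end K823.FibPt
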