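import Groth.Agent.Models.H58.CurveBC
import Groth.Agent.Surf.K823.FibPt

/-!
# The generic fibre of a family of curves
-/

set_option autoImplicit false
universe u
open CategoryTheory CategoryTheory.Limits AlgebraicGeometry TopologicalSpace

namespace K823.GenFib

open Groth.Agent FibPt

/-- Smooth proper curves with only constant functions. -/
def IsGood (K : Type u) [Field K] (P : Scheme.{u}) (q : P ⟶ Spec (CommRingCat.of K)) : Prop :=
  Curve.IsSmoothProperCurve K P q ∧ IsIso q.appTop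

theorem IsGood.of_iso {K : Type u} [Field K] {P P' : Scheme.{u}} {q : P ⟶ Spec (CommRingCat.of K)}
    {q' : P' ⟶ Spec (CommRingCat.of K)} (h : IsGood K P q) (e : P' ≅ P) (he : e.hom ≫ q = q') : IsGood K P' q' := by
  subst he
  obtain ⟨⟨h1, h2, h3, h4⟩, h5⟩ := h
  refine ⟨⟨inferInstance, inferInstance, ?_, ?_⟩, ?_⟩
  · have : Nonempty P' := ⟨e.inv (Classical.arbitrary P)⟩
    exact isIntegral_of_isOpenImmersion e.hom
  · rw [← h4]
    exact IsHomeomorph.topologicalKrullDim_eq _ e.hom.homeomorph.isHomeomorph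
  · rw [Scheme.Hom.comp_appTop]
    have h6 : IsIso e.hom.appTop := inferInstanceAs (IsIso (e.hom.app ⊤))
    exact @IsIso.comp_isIso _ _ _ _ _ _ _ h5 h6

/-- The fibres over the generic point (with values in any field) are good curves. -/
def IsGen {C X : Scheme.{u}} [IrreducibleSpace C] (f : X ⟶ C) : Prop :=
  ∀ (K : Type u) [Field K] (h : Spec (CommRingCat.of K) ⟶ C) (_ : ∀ x, h x = genericPoint C) (P : Scheme.{u})
    (a : P ⟶ X) (q : P ⟶ Spec (CommRingCat.of K)), IsPullback a q f h → IsGood K P q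

theorem gen_mk {C X : Scheme.{u}} [IrreducibleSpace C] {f : X ⟶ C}
    (H : ∀ (K : Type u) [Field K] (h : Spec (CommRingCat.of K) ⟶ C) (_ : ∀ x, h x = genericPoint C),
      IsGood K (pullback f h) (pullback.snd f h)) : IsGen f :=
  fun K _ h hh _ _ _ hq => (H K h hh).of_iso hq.isoPullback hq.isoPullback_hom_snd

theorem IsGen.of_isPullback {B C X Y : Scheme.{u}} [IrreducibleSpace B] [IrreducibleSpace C] {f : X ⟶ C} (hf : IsGen f)
    {φ : B ⟶ C} (hφ : φ (genericPoint B) = genericPoint C) {a : Y ⟶ X} {f' : Y ⟶ B} (hY : IsPullback a f' f φ) :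
    IsGen f' := fun K _ h hh P b q hq => hf K (h ≫ φ) (fun x => by rw [Scheme.Hom.comp_apply, hh, hφ]) P (b ≫ a) q
      (hq.paste_horiz hY)

/-- Base changes of families which are isomorphic over an open subset. -/
theorem exists_transfer {B M Y T P : Scheme.{u}} {f' : Y ⟶ B} {p : M ⟶ B} {U : B.Opens}
    (e : (p ⁻¹ᵁ U : Scheme.{u}) ≅ (f' ⁻¹ᵁ U : Scheme.{u})) (he : e.hom ≫ (f' ∣_ U) = p ∣_ U) {h : T ⟶ B}
    (hh : ∀ x, h x ∈ U) {b : P ⟶ M} {q : P ⟶ T} (hq : IsPullback b q p h) : ∃ b' : P ⟶ Y, IsPullback b' q f' h := by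
  have h2 : Set.range h ⊆ Set.range U.ι := by
    rintro _ ⟨x, rfl⟩
    exact ⟨⟨_, hh x⟩, rfl⟩
  have h3 : IsOpenImmersion.lift U.ι h h2 ≫ U.ι = h := IsOpenImmersion.lift_fac _ _ _
  obtain ⟨j, hj⟩ := exists_isPullback hq (isPullback_morphismRestrict p U).flip h3
  have h4 : IsPullback (j ≫ e.hom) q (f' ∣_ U) (IsOpenImmersion.lift U.ι h h2) := by
    refine IsPullback.of_iso hj (Iso.refl _) e (Iso.refl _) (Iso.refl _) (by simp) (by simp) ?_ (by simp)
    rw [Iso.refl_hom, Category.comp_id, he]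
  have h5 := h4.paste_horiz (isPullback_morphismRestrict f' U).flip
  rw [h3] at h5
  exact ⟨_, h5⟩

theorem IsGen.of_iso {B M Y : Scheme.{u}} [IrreducibleSpace B] {f' : Y ⟶ B} (hf : IsGen f') {p : M ⟶ B} {U : B.Opens}
    (hU : genericPoint B ∈ U) (e : (p ⁻¹ᵁ U : Scheme.{u}) ≅ (f' ⁻¹ᵁ U : Scheme.{u})) (he : e.hom ≫ (f' ∣_ U) = p ∣_ U) :
    IsGen p := by
  intro K _ h hh P b q hq
  obtain ⟨b', hb'⟩ := exists_transfer e he (fun x => by rw [hh]; exact hU) hq
  exact hf K h hh P _ q hb'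

/-- Flat morphisms from the spectrum of a field hit the generic point. -/
theorem apply_eq_genericPoint {C : Scheme.{u}} [IrreducibleSpace C] {K : Type u} [Field K]
    (h : Spec (CommRingCat.of K) ⟶ C) [Flat h] (x : Spec (CommRingCat.of K)) : h x = genericPoint C := by
  obtain ⟨y, -, hy⟩ := Flat.generalizingMap h (genericPoint_specializes (h x))
  rw [← hy, Subsingleton.elim x y]

end K823.GenFib
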