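import Groth.Agent.Surf.K455.MinCount

/-!
# Contraction of the exceptional curves in the fibres over the complement of an open subset of the base
-/

set_option autoImplicit false
universe u
open CategoryTheory CategoryTheory.Limits AlgebraicGeometry TopologicalSpace

namespace K823.MinFib

open Groth.Agent Groth.Agent.Dix Groth.Agent.Dix.ExcPts Groth.Agent.Dix.PointIdeal
  K464.Base K464.Curves K455.Srf K455.MinRes Groth.Agent.Resolve.K375

variable {k : Type u} [Field k] {B : Scheme.{u}} (sB : B ⟶ Spec (CommRingCat.of k)) (U : B.Opens)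
  {W : Scheme.{u}} (q : W ⟶ U)

/-- Good models of `W ⟶ U` over `B`. -/
def IsMod {M : Scheme.{u}} (p : M ⟶ B) : Prop :=
  Good (p ≫ sB) ∧ ∃ e : (p ⁻¹ᵁ U : Scheme.{u}) ≅ W, e.hom ≫ q = p ∣_ U

variable {sB U q}

/-- Contraction of an exceptional curve over the complement of `U`. -/
theorem IsMod.contract [PerfectField k] [IsSeparated sB] {M : Scheme.{u}} {p : M ⟶ B} (h : IsMod sB U q p)
    {E : Scheme.{u}} (ι : E ⟶ M) [IsClosedImmersion ι] (hE : Models.IsExcCurve ι) {b : B} (hb : b ∉ U)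
    (hcon : ∀ e : E, p (ι e) = b) :
    ∃ (M₁ : Scheme.{u}) (c : M ⟶ M₁) (p₁ : M₁ ⟶ B), Models.IsContractionOf ι c ∧ c ≫ p₁ = p ∧ IsMod sB U q p₁ := by
  obtain ⟨hg, e, he⟩ := h
  obtain ⟨M₁, c, g, hc, hcg, hg₁⟩ := hg.exists_contraction ι hE
  obtain ⟨p₁, hp₁, -⟩ := K372.Contr.existsUnique_desc ι hE c hc p (fun e e' => by rw [hcon, hcon])
  have hp₁ : c ≫ p₁ = p := hp₁
  have hpg : p₁ ≫ sB = g := by
    obtain ⟨r, -, hr⟩ := K372.Contr.existsUnique_desc ι hE c hc (p ≫ sB) (fun e e' => by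
      rw [Scheme.Hom.comp_apply, Scheme.Hom.comp_apply, hcon e, hcon e'])
    rw [hr (p₁ ≫ sB) (by rw [← hp₁, Category.assoc]), hr g hcg]
  obtain ⟨hN, hp, y, hy, hrange, hreg, hdim, hbl⟩ := id hc
  have hEi : IsIntegral E := (K372.Contr.isIntegral_of_isExcCurve hE).1
  have hcy : ∀ e, c (ι e) = y := fun e => by
    have h1 : (ι ≫ c) e ∈ Set.range ((ι ≫ c).base) := ⟨e, rfl⟩
    rw [hrange] at h1
    exact h1
  have hyU : y ∉ p₁ ⁻¹ᵁ U := by
    intro hyU
    apply hb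
    have h1 := hcon (genericPoint E)
    rw [← hp₁, Scheme.Hom.comp_apply, hcy] at h1
    rw [← h1]
    exact hyU
  have hiso : IsIso (c ∣_ (⟨{y}ᶜ, hy.isOpen_compl⟩ : M₁.Opens)) := Groth.Agent.Models.H69.Contr.isIso_compl y hy hbl
  have h5 : p₁ ⁻¹ᵁ U ≤ (⟨{y}ᶜ, hy.isOpen_compl⟩ : M₁.Opens) := by
    rintro x hx (rfl : x = y)
    exact hyU hx
  have h6 : IsIso (c ∣_ (p₁ ⁻¹ᵁ U)) := isIso_restrict_of_le c h5
  refine ⟨M₁, c, p₁, hc, hp₁, ⟨by rw [hpg]; exact hg₁, ?_⟩⟩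
  subst hp₁
  let e' : ((c ⁻¹ᵁ (p₁ ⁻¹ᵁ U) : M.Opens) : Scheme.{u}) ≅ W := e
  have he' : e'.hom ≫ q = (c ∣_ (p₁ ⁻¹ᵁ U)) ≫ (p₁ ∣_ U) := he.trans (morphismRestrict_comp c p₁ U)
  refine ⟨(asIso (c ∣_ (p₁ ⁻¹ᵁ U))).symm ≪≫ e', ?_⟩
  rw [Iso.trans_hom, Category.assoc, he', Iso.symm_hom, asIso_inv, IsIso.inv_comp_eq]

/-- Contractions lower the number of curves over the complement of `U`. -/
theorem ncard_lt [PerfectField k] {M M₁ : Scheme.{u}} {p : M ⟶ B}
    (h : IsMod sB U q p) (hgen : haveI := h.1.integral; p (genericPoint M) ∈ U) {E : Scheme.{u}} (ι : E ⟶ M) [IsClosedImmersion ι]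
    (hE : Models.IsExcCurve ι) {b : B} (hb : b ∉ U) (hcon : ∀ e : E, p (ι e) = b) {c : M ⟶ M₁} {p₁ : M₁ ⟶ B}
    (hc : Models.IsContractionOf ι c) (hp : c ≫ p₁ = p) :
    (cp U p₁).ncard < (cp U p).ncard := by
  have hg := h.1
  have := hg.integral
  have := hg.noeth
  have hfin := cp_finite U p hgen
  obtain ⟨hN, hpc, y, hy, hrange, hreg, hdim, hbl⟩ := id hc
  have hcy : ∀ e, c (ι e) = y := fun e => by
    have h1 : (ι ≫ c) e ∈ Set.range ((ι ≫ c).base) := ⟨e, rfl⟩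
    rw [hrange] at h1
    exact h1
  have hiso : IsIso (c ∣_ (⟨{y}ᶜ, hy.isOpen_compl⟩ : M₁.Opens)) := Groth.Agent.Models.H69.Contr.isIso_compl y hy hbl
  have hEi : IsIntegral E := (K372.Contr.isIntegral_of_isExcCurve hE).1
  let η : M := ι (genericPoint E)
  have hηU : p η ∉ U := by rw [hcon]; exact hb
  have hη : η ∈ cp U p := by
    refine ⟨hηU, ?_⟩
    apply le_antisymm
    · obtain ⟨e, he⟩ : ∃ e : E, e ≠ genericPoint E := by
        obtain ⟨e, e', hne⟩ := exists_ne_exc hE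
        by_cases h1 : e = genericPoint E
        · exact ⟨e', fun h2 => hne (h1.trans h2.symm)⟩
        · exact ⟨e, h1⟩
      have h1 : η ⤳ ι e := (genericPoint_specializes e).map ι.continuous
      have h2 := Geo.ringKrullDim_add_one_le h1 (fun h3 => he (ι.isClosedEmbedding.injective h3).symm)
      have h3 := ringKrullDim_stalk_le hg.dim.le (ι e)
      exact K455.Pos.le_of_add_one_le (h2.trans (h3.trans (by norm_num)))
    · exact Geo.one_le_ringKrullDim (fun h1 => hηU (h1 ▸ hgen))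
  have hsub : cp U p₁ ⊆ c '' (cp U p \ {η}) := by
    rintro z ⟨hz1, hz2⟩
    have hzy : z ≠ y := by
      rintro rfl
      rw [hdim] at hz2
      exact absurd hz2 (by decide)
    obtain ⟨w, hw⟩ := (c ∣_ (⟨{y}ᶜ, hy.isOpen_compl⟩ : M₁.Opens)).surjective ⟨z, hzy⟩
    have hwz : c w.1 = z := by
      have h5 := congrArg Subtype.val hw
      rwa [morphismRestrict_base_coe] at h5
    refine ⟨w.1, ⟨⟨?_, ?_⟩, ?_⟩, hwz⟩
    · rw [← hp, Scheme.Hom.comp_apply, hwz]; exact hz1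
    · rw [← Dix.ContractSurf.ringKrullDim_stalk_eq c (⟨{y}ᶜ, hy.isOpen_compl⟩ : M₁.Opens) w.1 (by
        rw [hwz]; exact hzy), hwz, hz2]
    · rintro (h6 : w.1 = η)
      apply hzy
      rw [← hwz, h6, hcy]
  calc (cp U p₁).ncard ≤ (c '' (cp U p \ {η})).ncard := Set.ncard_le_ncard hsub ((hfin.subset Set.sdiff_subset).image _)
    _ ≤ (cp U p \ {η}).ncard := Set.ncard_image_le (hfin.subset Set.sdiff_subset)
    _ < (cp U p).ncard := Set.ncard_lt_ncard (by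
      rw [Set.ssubset_iff_of_subset Set.sdiff_subset]
      exact ⟨η, hη, fun h7 => h7.2 rfl⟩) hfin

theorem gen_mem {M : Scheme.{u}} {p : M ⟶ B} (h : IsMod sB U q p) [Nonempty W] :
    haveI := h.1.integral; p (genericPoint M) ∈ U := by
  obtain ⟨hg, e, he⟩ := h
  have := hg.integral
  let w : (p ⁻¹ᵁ U : Scheme.{u}) := e.inv (Classical.arbitrary W)
  have h1 : (genericPoint M) ⤳ w.1 := genericPoint_specializes _
  exact h1.mem_open (p ⁻¹ᵁ U).2 w.2

/-- **Relatively minimal models** over the complement of `U`. -/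
theorem exists_minimal [PerfectField k] [IsSeparated sB] [Nonempty W] (n : ℕ) :
    ∀ {M : Scheme.{u}} {p : M ⟶ B} (_ : IsMod sB U q p) (_ : (cp U p).ncard = n),
      ∃ (M : Scheme.{u}) (p : M ⟶ B), IsMod sB U q p ∧
        ∀ (E : Scheme.{u}) (ι : E ⟶ M) [IsClosedImmersion ι], Models.IsExcCurve ι → ∀ b : B, b ∉ U →
          ¬ ∀ e : E, p (ι e) = b := by
  induction n using Nat.strong_induction_on with
  | _ n ih =>
  intro M p h hn
  by_cases hno : ∀ (E : Scheme.{u}) (ι : E ⟶ M) [IsClosedImmersion ι], Models.IsExcCurve ι → ∀ b : B, b ∉ U →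
      ¬ ∀ e : E, p (ι e) = b
  · exact ⟨M, p, h, hno⟩
  · push Not at hno
    obtain ⟨E, ι, hι, hE, b, hb, hcon⟩ := hno
    obtain ⟨M₁, c, p₁, hc, hp₁, h₁⟩ := h.contract ι hE hb hcon
    exact ih _ (by rw [← hn]; exact ncard_lt h (gen_mem h) ι hE hb hcon hc hp₁) h₁ rfl

end K823.MinFib
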