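import Groth.Agent.PicF.K247.RelDim
import Groth.Agent.UnramB.FiberClosed
import Groth.Agent.Variety.K658.RelDimComp
import Groth.Agent.Smoothlim.SmoothLocusBC
import Groth.Agent.Surf.K455.RelDim

/-!
# The smooth part of a family of curves over a curve
-/

set_option autoImplicit false
universe u
open CategoryTheory CategoryTheory.Limits AlgebraicGeometry TopologicalSpace

namespace K823.SmoothPart

open Groth.Agent

section general

variable {Y B : Scheme.{u}} (f : Y ⟶ B) (U : B.Opens)

theorem smooth_restrict [LocallyOfFinitePresentation f] (hU : ∀ y : Y, f y ∈ U → y ∈ f.smoothLocus) :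
    Smooth (f ∣_ U) := by
  have : LocallyOfFinitePresentation (f ∣_ U) := inferInstance
  rw [← Scheme.Hom.smoothLocus_eq_top_iff, eq_top_iff]
  intro y _
  refine (Smoothlim.SmoothLocusBC.mem_smoothLocus_iff_of_isPullback (isPullback_morphismRestrict f U).flip y
    (Or.inr inferInstance)).2 ?_
  exact hU _ y.2

theorem conn_restrict (hconn : ∀ c : B, ConnectedSpace (f.fiber c)) (u : U) : ConnectedSpace ((f ∣_ U).fiber u) := by
  obtain ⟨e⟩ := UnramB.FiberClosed.arrow_fiber_restrict f U u
  have e1 : (f ∣_ U).fiber u ≅ f.fiber (U.ι u) := Arrow.leftFunc.mapIso e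
  have := hconn (U.ι u)
  exact e1.inv.homeomorph.surjective.connectedSpace e1.inv.continuous

theorem dim_restrict {n : WithBot ℕ∞} (hdim : ∀ c : B, topologicalKrullDim (f.fiber c) = n) (u : U) :
    topologicalKrullDim ((f ∣_ U).fiber u) = n := by
  obtain ⟨e⟩ := UnramB.FiberClosed.arrow_fiber_restrict f U u
  have e1 : (f ∣_ U).fiber u ≅ f.fiber (U.ι u) := Arrow.leftFunc.mapIso e
  rw [← hdim (U.ι u)]
  exact IsHomeomorph.topologicalKrullDim_eq _ e1.hom.homeomorph.isHomeomorph

/-- Smooth families of connected curves. -/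
theorem smoothRelDimOne [Smooth f] (hconn : ∀ c : B, ConnectedSpace (f.fiber c))
    (hdim : ∀ c : B, topologicalKrullDim (f.fiber c) = 1) : SmoothOfRelativeDimension 1 f := by
  refine K247.RelDim.smoothOfRelDim f 1 fun s => ?_
  have h1 : Smooth (f.fiberToSpecResidueField s) :=
    inferInstanceAs (Smooth (pullback.snd f (B.fromSpecResidueField s)))
  have h2 := hconn s
  have h3 : IsIntegral (f.fiber s) :=
    @K247.SmoothGI.isIntegral_of_smooth (B.residueField s) _ _ (f.fiberToSpecResidueField s) h1 h2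
  exact @Picfga.CurveRelDim.smoothOfRelativeDimension_of_topologicalKrullDim_eq (B.residueField s) _ (f.fiber s)
    (f.fiberToSpecResidueField s) h1 h3 1 (by simpa using hdim s)

/-- The source of a proper morphism with connected fibres is connected if the target is. -/
theorem connectedSpace [IsProper f] [ConnectedSpace B] (hconn : ∀ c : B, ConnectedSpace (f.fiber c)) :
    ConnectedSpace Y := by
  have hsurj : Function.Surjective f := by
    intro c
    have := hconn c
    obtain ⟨y⟩ : Nonempty (f.fiber c) := inferInstance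
    have h1 : f.fiberι c y ∈ Set.range (f.fiberι c) := ⟨y, rfl⟩
    rw [Scheme.Hom.range_fiberι] at h1
    exact ⟨_, h1⟩
  have hfib : ∀ c : B, _root_.IsConnected (f ⁻¹' {c}) := by
    intro c
    have := hconn c
    rw [← Scheme.Hom.range_fiberι]
    exact isConnected_range (f.fiberι c).continuous
  have hq : Topology.IsQuotientMap f := f.isClosedMap.isQuotientMap f.continuous hsurj
  have : Nonempty Y := by
    obtain ⟨b⟩ : Nonempty B := inferInstance
    obtain ⟨y, -⟩ := hsurj b
    exact ⟨y⟩
  rw [connectedSpace_iff_univ]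
  have h1 := hq.isCoinducing.isConnected_preimage_of_isClosed hfib isClosed_univ isConnected_univ
  rwa [Set.preimage_univ] at h1

end general

section field

variable {k : Type u} [Field k] {B Y : Scheme.{u}} (sB : B ⟶ Spec (CommRingCat.of k)) [IsProper sB] [Smooth sB]
  [IsIntegral B] (hB : topologicalKrullDim B = 1)

include hB in
theorem relDim_base : SmoothOfRelativeDimension 1 sB := by
  have h1 : IsLocallyNoetherian B := LocallyOfFiniteType.isLocallyNoetherian sB
  have h2 : CompactSpace B := QuasiCompact.compactSpace_of_compactSpace sB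
  have h3 : IsNoetherian B := {}
  refine K455.RelDim.smoothOfRelativeDimension k sB 1 fun Z hZ => ?_
  have h4 : Z = Set.univ := by
    rw [irreducibleComponents_eq_singleton (X := B)] at hZ
    exact hZ
  subst h4
  rw [show ((1 : ℕ) : WithBot ℕ∞) = 1 from rfl, ← hB]
  exact IsHomeomorph.topologicalKrullDim_eq _ (Homeomorph.Set.univ B).isHomeomorph

variable (f : Y ⟶ B) [IsProper f] [LocallyOfFinitePresentation f] (hconn : ∀ c : B, ConnectedSpace (f.fiber c))
  (hdim : ∀ c : B, topologicalKrullDim (f.fiber c) = 1) (U : B.Opens) (hne : (U : Set B).Nonempty)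
  (hU : ∀ y : Y, f y ∈ U → y ∈ f.smoothLocus)

include sB hconn hdim hne hU hB

theorem relDim_total : Nonempty (f ⁻¹ᵁ U : Scheme.{u}) ∧
    SmoothOfRelativeDimension 2 ((f ∣_ U) ≫ U.ι ≫ sB) := by
  have h1 := smooth_restrict f U hU
  have h2 := smoothRelDimOne (f ∣_ U) (conn_restrict f U hconn) (dim_restrict f U hdim)
  have h3 := relDim_base sB hB
  refine ⟨?_, ?_⟩
  · obtain ⟨b, hb⟩ := hne
    have := conn_restrict f U hconn ⟨b, hb⟩
    obtain ⟨y⟩ : Nonempty ((f ∣_ U).fiber ⟨b, hb⟩) := inferInstance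
    exact ⟨(f ∣_ U).fiberι _ y⟩
  · exact (inferInstance : SmoothOfRelativeDimension (1 + (0 + 1)) ((f ∣_ U) ≫ U.ι ≫ sB))

theorem isIntegral_total : IsIntegral (f ⁻¹ᵁ U : Scheme.{u}) := by
  obtain ⟨h1, h2⟩ := relDim_total sB hB f hconn hdim U hne hU
  have h3 : Smooth ((f ∣_ U) ≫ U.ι ≫ sB) := SmoothOfRelativeDimension.smooth 2 _
  have h4 : IrreducibleSpace (U : Scheme.{u}) := by
    have : Nonempty U := by
      obtain ⟨b, hb⟩ := hne
      exact ⟨⟨b, hb⟩⟩
    have : IsIntegral (U : Scheme.{u}) := inferInstance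
    infer_instance
  have h5 : ConnectedSpace (f ⁻¹ᵁ U : Scheme.{u}) := connectedSpace (f ∣_ U) (conn_restrict f U hconn)
  exact K247.SmoothGI.isIntegral_of_smooth ((f ∣_ U) ≫ U.ι ≫ sB)

theorem dim_total : topologicalKrullDim (f ⁻¹ᵁ U : Scheme.{u}) = 2 := by
  obtain ⟨h1, h2⟩ := relDim_total sB hB f hconn hdim U hne hU
  have h3 := K658.RelDimComp.topologicalKrullDim_eq 2 ((f ∣_ U) ≫ U.ι ≫ sB)
  exact_mod_cast h3

theorem regular_total (y : Y) (hy : f y ∈ U) : IsRegularLocalRing (Y.presheaf.stalk y) := by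
  obtain ⟨h1, h2⟩ := relDim_total sB hB f hconn hdim U hne hU
  have h3 : Smooth ((f ∣_ U) ≫ U.ι ≫ sB) := SmoothOfRelativeDimension.smooth 2 _
  have h4 := Lefpen.H705.ClosedPoint.isRegularLocalRing_stalk ((f ∣_ U) ≫ U.ι ≫ sB) ⟨y, hy⟩
  exact IsRegularLocalRing.of_ringEquiv
    (asIso ((f ⁻¹ᵁ U).ι.stalkMap ⟨y, hy⟩)).symm.commRingCatIsoToRingEquiv

end field

end K823.SmoothPart
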