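import Groth.Agent.Surf.K823.Clos
import Groth.Agent.Surf.K823.SmoothPart
import Groth.Agent.Surf.K823.MinFib

/-!
# Relatively minimal regular models of a family of curves with given smooth part
-/

set_option autoImplicit false
universe u
open CategoryTheory CategoryTheory.Limits AlgebraicGeometry TopologicalSpace

namespace K823.Model

open Groth.Agent K455.Srf MinFib

variable {k : Type u} [Field k] [PerfectField k] {B Y : Scheme.{u}} (sB : B ⟶ Spec (CommRingCat.of k)) [IsProper sB]
  [Smooth sB] [IsIntegral B] (hB : topologicalKrullDim B = 1)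
  (f : Y ⟶ B) [IsProper f] [LocallyOfFinitePresentation f] (hconn : ∀ c : B, ConnectedSpace (f.fiber c))
  (hdim : ∀ c : B, topologicalKrullDim (f.fiber c) = 1) (U : B.Opens) (hne : (U : Set B).Nonempty)
  (hU : ∀ y : Y, f y ∈ U → y ∈ f.smoothLocus)

include hconn hdim hne hU hB in
/-- **Relatively minimal models** of a family of curves, extending the smooth part. -/
theorem exists_min_model : ∃ (M : Scheme.{u}) (p : M ⟶ B), IsMod sB U (f ∣_ U) p ∧
    ∀ (E : Scheme.{u}) (ι : E ⟶ M) [IsClosedImmersion ι], Models.IsExcCurve ι → ∀ b : B, b ∉ U →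
      ¬ ∀ e : E, p (ι e) = b := by
  have h1 := SmoothPart.isIntegral_total sB hB f hconn hdim U hne hU
  have h2 := SmoothPart.dim_total sB hB f hconn hdim U hne hU
  have hN : IsNoetherian Y := by
    have h3 : IsLocallyNoetherian Y := LocallyOfFiniteType.isLocallyNoetherian (f ≫ sB)
    have h4 : CompactSpace Y := QuasiCompact.compactSpace_of_compactSpace (f ≫ sB)
    exact {}
  obtain ⟨M, r, h5, h6, h7, h8, h9⟩ := Clos.exists_model (f ≫ sB) (f ⁻¹ᵁ U) h2
    (fun y hy => SmoothPart.regular_total sB hB f hconn hdim U hne hU y hy)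
  have hmod : IsMod sB U (f ∣_ U) (r ≫ f) := by
    refine ⟨⟨inferInstance, K455.RelDim.smooth_of_regular k _ h8, h6, h7⟩, @asIso _ _ _ _ (r ∣_ (f ⁻¹ᵁ U)) h9, ?_⟩
    exact (morphismRestrict_comp r f U).symm
  have hW : Nonempty (f ⁻¹ᵁ U : Scheme.{u}) := h1.nonempty
  exact exists_minimal _ hmod rfl

end K823.Model
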