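import Groth.Agent.Surf.K823.Model
import Groth.Agent.Surf.K823.CompMin
import Groth.Agent.Surf.K823.CompPt
import Groth.Agent.S3336
import Groth.Agent.CurvesB.NodalQuot

/-!
# The fibres of a relatively minimal model with semistable reduction are nodal
-/

set_option autoImplicit false
universe u
open CategoryTheory CategoryTheory.Limits AlgebraicGeometry TopologicalSpace IsLocalRing

namespace K823.NodalPt

open Groth.Agent K455.Srf MinFib Groth.Agent.Resolve.K375 Groth.Agent.Dix.ExcPts K464.Base K464.Curves K455.MinRes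

/-- Base change of a pullback square along a factorization. -/
theorem exists_isPullback {κ : CommRingCat.{u}} {S B M P Y : Scheme.{u}} {p : M ⟶ B} {a : P ⟶ M} {f : P ⟶ Spec κ}
    {c : Spec κ ⟶ B} (h : IsPullback a f p c) {g : S ⟶ B} {a' : Y ⟶ M} {f' : Y ⟶ S} (h' : IsPullback a' f' p g)
    {i : Spec κ ⟶ S} (hi : i ≫ g = c) : ∃ j : P ⟶ Y, IsPullback j f f' i := by
  subst hi
  exact ⟨h'.lift a (f ≫ i) (by rw [Category.assoc]; exact h.w), IsPullback.of_right (by
    rw [h'.lift_fst]; exact h) (h'.lift_snd _ _ _) h'⟩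

variable {k : Type u} [Field k] {B : Scheme.{u}} {sB : B ⟶ Spec (CommRingCat.of k)} [IsProper sB]
  {U : B.Opens} {W : Scheme.{u}} {q : W ⟶ U} [Nonempty W] {M : Scheme.{u}} {p : M ⟶ B} (hM : IsMod sB U q p)
  (hmin : ∀ (E : Scheme.{u}) (ι : E ⟶ M) [IsClosedImmersion ι], Models.IsExcCurve ι → ∀ b : B, b ∉ U →
      ¬ ∀ e : E, p (ι e) = b)

include hM hmin

omit [IsProper sB] in
theorem codim_one {b : B} (hb : b ∉ U) {P : Scheme.{u}} [IsIntegral P] (ι : P ⟶ M) [IsClosedImmersion ι]
    (hι : ∀ e, p (ι e) = b) (hne : ∃ x y : P, x ≠ y) :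
    ringKrullDim (M.presheaf.stalk (ι (genericPoint P))) = 1 ∧ ¬ Models.IsExcCurve ι := by
  have hg := hM.1
  have := hg.integral
  have := hg.noeth
  have hgen := gen_mem hM
  refine ⟨?_, fun hE => hmin P ι hE b hb hι⟩
  apply le_antisymm
  · obtain ⟨e, he⟩ : ∃ e : P, e ≠ genericPoint P := by
      obtain ⟨e, e', hne⟩ := hne
      by_cases h1 : e = genericPoint P
      · exact ⟨e', fun h2 => hne (h1.trans h2.symm)⟩
      · exact ⟨e, h1⟩
    have h1 : ι (genericPoint P) ⤳ ι e := (genericPoint_specializes e).map ι.continuous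
    have h2 := Geo.ringKrullDim_add_one_le h1 (fun h3 => he (ι.isClosedEmbedding.injective h3).symm)
    have h3 := ringKrullDim_stalk_le hg.dim.le (ι e)
    exact K455.Pos.le_of_add_one_le (h2.trans (h3.trans (by norm_num)))
  · refine Geo.one_le_ringKrullDim (fun h1 => hb ?_)
    rw [← hι (genericPoint P), h1]
    exact hgen

theorem nodal {b : B} (hb : b ∉ U) (hbc : IsClosed ({b} : Set B)) [Flat p] {A : Type u} [CommRing A] [IsDomain A]
    [IsDiscreteValuationRing A] {π : A →+* B.residueField b} (hπ : Function.Surjective π)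
    {g : Spec (CommRingCat.of A) ⟶ B} [Flat g]
    (hpb : IsPullback (Spec.map (CommRingCat.ofHom π)) (𝟙 _) g (B.fromSpecResidueField b))
    {C : Scheme.{u}} {f : C ⟶ Spec (CommRingCat.of (FractionRing A))} {a : C ⟶ M}
    (hCM : IsPullback a f p (Spec.map (CommRingCat.ofHom (algebraMap A (FractionRing A))) ≫ g))
    (hC : Curve.IsSmoothProperCurve (FractionRing A) C f) (hH0 : IsIso f.appTop)
    (hss : Models.HasSemistableReduction A C f) :
    (∀ Z ∈ irreducibleComponents (p.fiber b : Type u), topologicalKrullDim Z = 1) ∧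
      letI : (p.fiber b).Over (Spec (B.residueField b)) := ⟨p.fiberToSpecResidueField b⟩
      Curv2.AtWorstNodal (B.residueField b) (p.fiber b) := by
  have hg := hM.1
  have := hg.proper
  have hpp : IsProper p := IsProper.of_comp p sB
  have := hg.noeth
  have hcl : IsClosedImmersion (B.fromSpecResidueField b) := isClosed_singleton_iff_isClosedImmersion.1 hbc
  have hM' : IsPullback (pullback.fst p g) (pullback.snd p g) p g := IsPullback.of_hasPullback _ _
  have hmm := CompMin.isMinimalModel (κ := B.residueField b) hπ hpb hM' hg.regular (fun P ι _ _ b' h1 h2 => by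
    refine codim_one hM hmin hb ι (fun e => ?_) h2
    rw [← Scheme.Hom.comp_apply, h1, Scheme.Hom.comp_apply]
    exact Scheme.fromSpecResidueField_apply _ _) hCM
  have hnod := Groth.Agent.S3336.result A C _ f _ hC hH0 hss hmm
  have hw : Spec.map (CommRingCat.ofHom π) ≫ g = B.fromSpecResidueField b := by simpa using hpb.w
  let _ : (p.fiber b).Over (Spec (CommRingCat.of (B.residueField b))) := ⟨p.fiberToSpecResidueField b⟩
  have hfib : IsPullback (p.fiberι b) (p.fiberToSpecResidueField b) p (B.fromSpecResidueField b) :=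
    IsPullback.of_hasPullback _ _
  obtain ⟨j, hj⟩ := exists_isPullback (κ := CommRingCat.of (B.residueField b)) hfib hM' hw
  exact CurvesB.NodalQuot.atWorstNodal_of_surjective A (pullback p g) (pullback.snd p g) hnod
    (B.residueField b) π hπ (p.fiber b) j hj

end K823.NodalPt
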