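import Groth.Agent.Surf.K464.Hirz
import Groth.Agent.Surf.K461.GG
import Groth.Agent.Surf.K455.CMInt
import Groth.Agent.Surf.K463.SmoothSurf
import Groth.Agent.Variety.K427.GGMor
import Groth.Agent.Ega3B.FibreSpread
import Groth.Agent.AdjLin.K800.HomDim
import Groth.Agent.AbVar.K514.Const
import Groth.Agent.S1628
import Groth.Agent.Ega4A.RegCM
import Groth.Agent.Models.H50.PointInter
import Groth.Agent.Gaga.H364.ProjRed
import Groth.Agent.Sga4h.H923.DevGeo

/-!
# Recognition of `P¹ × P¹`

`exists_iso`: an integral smooth proper surface over an algebraically closed field with two globally generated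
invertible modules `L`, `M`, `h⁰ = 2`, `L.M = 1` and `L ⊗ M` ample is `P¹ × P¹`.
-/

set_option autoImplicit false
universe u
open CategoryTheory CategoryTheory.Limits AlgebraicGeometry TopologicalSpace

namespace K823.P1P1

open Groth.Agent Groth.Agent.Grpsch.PicGrp K464.Base K464.Hirz K464.Cohom

local notation "Sp" k:max => Spec (CommRingCat.of k)

section maps

variable (k : Type u) [Field k] {X : Scheme.{u}} [X.Over (Sp k)]

attribute [local instance] CurvesC.LinMod.linearModules

/-- The morphism attached to a globally generated invertible module with `h⁰ = n + 1`. -/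
theorem exists_map {L : X.Modules} (hL : PicF.IsInvertible L) (hg : Curv2.IsGloballyGenerated L) {n : ℕ}
    (h : Module.finrank k (Coh.HH X L 0) = n + 1) :
    ∃ φ : X ⟶ CohB1.ProjSpace n k, φ ≫ CohB1.ProjSpace.toSpec n k = X ↘ (Sp k) ∧
      Nonempty ((Scheme.Modules.pullback φ).obj (Twist.twistProjSpace n k 1) ≅ L) := by
  let e : (Coh.structureModule X ⟶ L) ≃ₗ[k] Coh.HH X L 0 := K800.HomDim.secHom k L
  have h1 : Module.finrank k (Coh.structureModule X ⟶ L) = n + 1 := by rw [← h]; exact e.finrank_eq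
  have : Module.Finite k (Coh.structureModule X ⟶ L) := Module.finite_of_finrank_pos (by omega)
  let b : Module.Basis (Fin (n + 1)) k (Coh.structureModule X ⟶ L) := Module.finBasisOfFinrankEq k _ h1
  have hcov : ⨆ i, CohB1.genLocus L (b i) = ⊤ := by
    rw [eq_top_iff]
    intro x _
    rw [Opens.mem_iSup]
    by_contra hcon
    push Not at hcon
    have h2 : (⊤ : Submodule k (Coh.structureModule X ⟶ L)) ≤ K461.GG.vanSub k hL x := by
      rw [← b.span_eq, Submodule.span_le]
      rintro _ ⟨i, rfl⟩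
      exact hcon i
    obtain ⟨s, hs⟩ := (gg_iff hL).1 hg x
    exact (h2 (Submodule.mem_top : s ∈ _)) hs
  obtain ⟨φ, -, h3, -, -, e', -⟩ := CurvesC.ProjMap.exists_morphism (X ↘ (Sp k)) L b hcov
  exact ⟨φ, h3, ⟨e'⟩⟩

end maps

section points

/-- A point of a product over an algebraically closed field is determined by its projections, the first one being
closed. -/
theorem eq_of_proj (k : Type u) [Field k] [IsAlgClosed k] {A B : Scheme.{u}} (a : A ⟶ Sp k) (b : B ⟶ Sp k)
    [LocallyOfFiniteType a] {z w : ↥(pullback a b)} (hc : IsClosed ({pullback.fst a b z} : Set A))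
    (h1 : pullback.fst a b w = pullback.fst a b z) (h2 : pullback.snd a b w = pullback.snd a b z) : w = z := by
  let τ := pointOfClosedPoint a (pullback.fst a b z) hc
  have hτ : τ ≫ a = 𝟙 _ := pointOfClosedPoint_comp _ _ _
  let σ : B ⟶ pullback a b := pullback.lift (b ≫ τ) (𝟙 B)
    (by rw [Category.assoc, hτ, Category.comp_id, Category.id_comp])
  have h3 : IsPullback (σ ≫ pullback.snd a b) b b (τ ≫ a) := by
    rw [pullback.lift_snd, hτ]
    exact IsPullback.of_horiz_isIso ⟨by simp⟩
  have h4 : IsPullback σ b (pullback.fst a b) τ :=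
    IsPullback.of_right h3 (pullback.lift_fst _ _ _) (IsPullback.of_hasPullback a b).flip
  have key : ∀ v : ↥(pullback a b), pullback.fst a b v = pullback.fst a b z → σ (pullback.snd a b v) = v := by
    intro v hv
    obtain ⟨t, ht1, -⟩ := Scheme.Pullback.exists_preimage_pullback (f := pullback.fst a b) (g := τ) v
      (IsLocalRing.closedPoint k) (by rw [hv]; exact (pointOfClosedPoint_apply _ _ _ _).symm)
    have h5 : σ (h4.isoPullback.inv t) = v := by
      rw [← ht1, ← Scheme.Hom.comp_apply, IsPullback.isoPullback_inv_fst]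
    rw [← h5, ← Scheme.Hom.comp_apply σ, pullback.lift_snd]
    rfl
  rw [← key w h1, h2, key z rfl]

/-- A proper scheme over `k` with finitely many points and `h⁰(O) = 1` is `Spec k`. -/
theorem isClosedImmersion_of_finrank (k : Type u) [Field k] {Z : Scheme.{u}} [Z.Over (Sp k)]
    [IsProper (Z ↘ (Sp k))] (hfin : (Set.univ : Set Z).Finite)
    (h : Module.finrank k (Coh.HH Z (Coh.structureModule Z) 0) = 1) : IsClosedImmersion (Z ↘ (Sp k)) := by
  have : IsFinite (Z ↘ (Sp k)) := Sga4h.H923.DevGeo.isFinite_of_finite _ hfin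
  have : IsAffine Z := isAffine_of_isAffineHom (Z ↘ (Sp k))
  exact IsClosedImmersion.of_surjective_of_isAffine _ (K514.Const.surjective_appTop_of_finrank k Z h)

/-- A scheme-theoretic fibre contained in a closed subscheme isomorphic to `Spec k`. -/
theorem fibre_of_le (k : Type u) [Field k] {X Q : Scheme.{u}} (φ : X ⟶ Q) (q : Q ⟶ Sp k) [IsSeparated q]
    {z : Q} (hz : IsClosed ({z} : Set Q)) (J : X.IdealSheafData) (hJ : J ≤ (φ.fiberι z).ker)
    (hZ : IsClosedImmersion (J.subschemeι ≫ φ ≫ q)) [LocallyOfFiniteType q] :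
    IsClosedImmersion (φ.fiberToSpecResidueField z) := by
  have h0 : IsClosedImmersion (Q.fromSpecResidueField z) := isClosed_singleton_iff_isClosedImmersion.1 hz
  have h1 : IsClosedImmersion (φ.fiberι z) :=
    MorphismProperty.pullback_fst (P := @IsClosedImmersion) φ (Q.fromSpecResidueField z) h0
  let ℓ : φ.fiber z ⟶ J.subscheme := IsClosedImmersion.lift J.subschemeι (φ.fiberι z) (by
    rw [Scheme.IdealSheafData.ker_subschemeι]; exact hJ)
  have hℓ : ℓ ≫ J.subschemeι = φ.fiberι z := IsClosedImmersion.lift_fac _ _ _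
  have hℓ' : IsClosedImmersion ℓ := by
    have : IsClosedImmersion (ℓ ≫ J.subschemeι) := by rw [hℓ]; exact h1
    exact IsClosedImmersion.of_comp ℓ J.subschemeι
  have h2 : IsClosedImmersion (φ.fiberToSpecResidueField z ≫ Q.fromSpecResidueField z ≫ q) := by
    have e : φ.fiberToSpecResidueField z ≫ Q.fromSpecResidueField z ≫ q = ℓ ≫ J.subschemeι ≫ φ ≫ q := by
      rw [← Category.assoc ℓ, hℓ, ← Category.assoc, ← Category.assoc]
      congr 1
      exact (pullback.condition).symm
    rw [e]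
    infer_instance
  have : IsSeparated (Q.fromSpecResidueField z ≫ q) := inferInstance
  exact IsClosedImmersion.of_comp _ (Q.fromSpecResidueField z ≫ q)

theorem range_res {Q P : Scheme.{u}} (p : Q ⟶ P) {z : Q} {w : P} (hz : p z = w) :
    Set.range (Q.fromSpecResidueField z ≫ p) = {w} := by
  ext y
  simp only [Set.mem_range, Set.mem_singleton_iff]
  constructor
  · rintro ⟨a, rfl⟩
    rw [Scheme.Hom.comp_apply, Scheme.fromSpecResidueField_apply, hz]
  · rintro rfl
    refine ⟨IsLocalRing.closedPoint _, ?_⟩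
    rw [Scheme.Hom.comp_apply, Scheme.fromSpecResidueField_apply, hz]

theorem closeds_eq {P : Scheme.{u}} {w : P} (hw : IsClosed ({w} : Set P)) {s : Set P} (h : s = {w}) :
    (⟨{w}, hw⟩ : Closeds P) = .closure s := by
  apply Closeds.ext
  rw [Closeds.coe_closure, h, hw.closure_eq]
  rfl

/-- The kernel of a morphism from the spectrum of a residue field with closed image is the ideal of the point. -/
theorem pt_eq_ker {Q P : Scheme.{u}} (p : Q ⟶ P) {z : Q} {w : P} (hw : IsClosed ({w} : Set P)) (hz : p z = w) :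
    K464.PtCurve.pt hw = (Q.fromSpecResidueField z ≫ p).ker := by
  rw [Models.H50.PointInter.ker_eq_vanishingIdeal]
  exact congrArg Scheme.IdealSheafData.vanishingIdeal (closeds_eq hw (range_res p hz))

/-- The scheme-theoretic fibre is contained in the preimage of the ideal of the image point. -/
theorem comap_pt_le {X Q P : Scheme.{u}} (φ : X ⟶ Q) (ψ : X ⟶ P) (p : Q ⟶ P) (h : φ ≫ p = ψ) {z : Q}
    (hz : IsClosed ({p z} : Set P)) : (K464.PtCurve.pt hz).comap ψ ≤ (φ.fiberι z).ker := by
  rw [← Scheme.IdealSheafData.le_map_iff_comap_le, Scheme.IdealSheafData.map_ker]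
  have h1 : φ.fiberι z ≫ ψ = φ.fiberToSpecResidueField z ≫ Q.fromSpecResidueField z ≫ p := by
    rw [← h, Scheme.Hom.fiber_fac_assoc]
  rw [h1, pt_eq_ker p hz rfl]
  exact Scheme.Hom.le_ker_comp _ _

/-- A proper morphism whose fibres over the closed points are closed immersions. -/
theorem isClosedImmersion_of_fibres {X Q : Scheme.{u}} (φ : X ⟶ Q) [IsProper φ] [CompactSpace Q]
    (h : ∀ z : Q, IsClosed ({z} : Set Q) → IsClosedImmersion (φ.fiberToSpecResidueField z)) :
    IsClosedImmersion φ := by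
  have key : ∀ z : Q, IsClosed ({z} : Set Q) → ∃ U : Q.Opens, z ∈ U ∧ IsClosedImmersion (φ ∣_ U) := by
    intro z hz
    have h1 : CohIII.fiberMapOver φ φ (𝟙 Q) (Category.comp_id φ) z ≫ (𝟙 Q : Q ⟶ Q).fiberToSpecResidueField z =
        φ.fiberToSpecResidueField z := by
      exact (pullback.lift_snd _ _ _).trans (Category.comp_id _)
    have h2 : IsClosedImmersion (CohIII.fiberMapOver φ φ (𝟙 Q) (Category.comp_id φ) z) := by
      have h3 : IsClosedImmersion (CohIII.fiberMapOver φ φ (𝟙 Q) (Category.comp_id φ) z ≫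
          (𝟙 Q : Q ⟶ Q).fiberToSpecResidueField z) := by rw [h1]; exact h z hz
      exact IsClosedImmersion.of_comp _ ((𝟙 Q : Q ⟶ Q).fiberToSpecResidueField z)
    exact Ega3B.FibreSpread.exists_closedImmersion φ φ (𝟙 Q) (Category.comp_id φ) z h2
  choose! U hzU hU using key
  let V : {z : Q // IsClosed ({z} : Set Q)} → Q.Opens := fun z => U z
  have hV : ⨆ z, V z = ⊤ := by
    by_contra hcon
    have hne : ((⨆ z, V z : Q.Opens) : Set Q)ᶜ.Nonempty := by
      rw [Set.nonempty_compl]
      intro h'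
      exact hcon (Opens.ext h')
    obtain ⟨x, hx, hxc⟩ := (⨆ z, V z : Q.Opens).isOpen.isClosed_compl.exists_closed_singleton hne
    apply hx
    have h3 : x ∈ ⨆ z, V z := Opens.mem_iSup.2 ⟨⟨x, hxc⟩, hzU x hxc⟩
    exact h3
  exact (IsZariskiLocalAtTarget.iff_of_iSup_eq_top (P := @IsClosedImmersion) V hV).2 fun z => hU z.1 z.2

end points

section dominant

theorem isIntegral_P1 (k : Type u) [Field k] : IsIntegral (CohB1.ProjSpace 1 k) := inferInstance

variable (k : Type u) [Field k] [IsAlgClosed k] {X : Scheme.{u}} [IsIntegral X]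

/-- A morphism to `P¹` is dominant if `O(1)` does not pull back to the trivial module. -/
theorem isDominant_of_ne (φ : X ⟶ CohB1.ProjSpace 1 k) (h : pull φ (o1 k) ≠ 1) : IsDominant φ := by
  have : IsIntegral (CohB1.ProjSpace 1 k) := isIntegral_P1 k
  have key : φ (genericPoint X) = genericPoint (CohB1.ProjSpace 1 k) := by
    by_contra hne
    have hc := K464.PtCurve.isClosed_of_ne (dim_P1 k) hne
    apply h
    refine K427.FibCurve.pull_eq_one_of_range φ _ hc ?_ _
    rintro _ ⟨x, rfl⟩
    have h1 : φ (genericPoint X) ⤳ φ x := (genericPoint_specializes x).map φ.continuous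
    have h2 := h1.mem_closure
    rwa [hc.closure_eq] at h2
  constructor
  intro y
  have h3 : closure ({φ (genericPoint X)} : Set (CohB1.ProjSpace 1 k)) = Set.univ := by
    rw [key]; exact genericPoint_spec _
  have h4 : y ∈ closure ({φ (genericPoint X)} : Set (CohB1.ProjSpace 1 k)) := by rw [h3]; trivial
  exact closure_mono (Set.singleton_subset_iff.2 (Set.mem_range_self _)) h4

variable [X.Over (Sp k)] [IsProper (X ↘ (Sp k))] (hX : topologicalKrullDim X ≤ (2 : ℕ))
  (φ : X ⟶ CohB1.ProjSpace 1 k) [IsDominant φ] (hφ : φ ≫ CohB1.ProjSpace.toSpec 1 k = X ↘ (Sp k))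

include hX hφ in
/-- Intersections with the fibre of a morphism to `P¹`. -/
theorem dot_fibre {y : CohB1.ProjSpace 1 k} (hy : IsClosed ({y} : Set (CohB1.ProjSpace 1 k)))
    (hE : BlowUp.IsEffCartierIdeal ((K464.PtCurve.pt hy).comap φ)) (x : Pic X) :
    dot k X (ic _ hE) x = - dot k X (pull φ (o1 k)) x := by
  have : IsIntegral (CohB1.ProjSpace 1 k) := isIntegral_P1 k
  have := isProper_P1 k
  obtain ⟨N, hN, rfl⟩ := exists_mk x
  have hE0 := K464.PtCurve.isEff_pt k (CohB1.ProjSpace 1 k ↘ (Sp k)) (dim_P1 k) (hreg_P1 k) hy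
  have h1 := K464.FibCurve.dot_pull k φ hφ hX (dim_P1 k) (hreg_P1 k) (ic _ hE0) hN
  have h2 := K464.FibCurve.dot_pull k φ hφ hX (dim_P1 k) (hreg_P1 k) (o1 k) hN
  rw [K464.DegCurve.pull_ic φ hE0 hE] at h1
  rw [h1, h2, K464.PtCurve.degC_pt k (dim_P1 k) hy hE0]
  have h3 := degC_twist k 1
  rw [h3]
  ring

omit [IsAlgClosed k] [X.Over (Sp k)] [IsProper (X ↘ (Sp k))] in
include φ in
theorem isEff_fibre {y : CohB1.ProjSpace 1 k} (hy : IsClosed ({y} : Set (CohB1.ProjSpace 1 k))) :
    BlowUp.IsEffCartierIdeal ((K464.PtCurve.pt hy).comap φ) := by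
  have : IsIntegral (CohB1.ProjSpace 1 k) := isIntegral_P1 k
  have := isProper_P1 k
  exact K464.FibCurve.isEff_fibre φ (dim_P1 k) hy
    (K464.PtCurve.isEff_pt k (CohB1.ProjSpace 1 k ↘ (Sp k)) (dim_P1 k) (hreg_P1 k) hy)

end dominant

section main

variable (k : Type u) [Field k] [IsAlgClosed k]

/-- `P¹ × P¹`. -/
noncomputable abbrev QQ (k : Type u) [Field k] : Scheme.{u} :=
  pullback (CohB1.ProjSpace.toSpec 1 k) (CohB1.ProjSpace.toSpec 1 k)

omit [IsAlgClosed k] in
theorem isReduced_QQ : IsReduced (QQ k) := by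
  have h1 : Smooth (CohB1.ProjSpace.toSpec 1 k) := Groth.Agent.Gaga.H364.ProjRed.smooth_toSpec 1 k
  have h2 : Smooth (pullback.fst (CohB1.ProjSpace.toSpec 1 k) (CohB1.ProjSpace.toSpec 1 k) ≫
    CohB1.ProjSpace.toSpec 1 k) := inferInstance
  have h3 := fun x => S1628.isReduced_stalk_of_smooth (pullback.fst (CohB1.ProjSpace.toSpec 1 k)
    (CohB1.ProjSpace.toSpec 1 k) ≫ CohB1.ProjSpace.toSpec 1 k) x
  exact isReduced_of_isReduced_stalk _

variable {X : Scheme.{u}} [X.Over (Sp k)] [IsProper (X ↘ (Sp k))] [Smooth (X ↘ (Sp k))] [IsIntegral X]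
  (hdim : topologicalKrullDim X = 2) {L M : X.Modules} (hL : PicF.IsInvertible L) (hM : PicF.IsInvertible M)
  (hgL : Curv2.IsGloballyGenerated L) (hgM : Curv2.IsGloballyGenerated M)
  (hL2 : Module.finrank k (Coh.HH X L 0) = 2) (hM2 : Module.finrank k (Coh.HH X M 0) = 2)
  (hLM : dot k X (mk L hL) (mk M hM) = 1) (hamp : CohB1.IsAmple (CohB1.tensorMod L M))

include hdim hgL hgM hL2 hM2 hLM hamp in
/-- **Recognition of `P¹ × P¹`.** -/
theorem exists_iso : ∃ e : X ≅ pullback (CohB1.ProjSpace.toSpec 1 k) (CohB1.ProjSpace.toSpec 1 k),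
    e.hom ≫ pullback.fst _ _ ≫ CohB1.ProjSpace.toSpec 1 k = X ↘ (Sp k) ∧
    Nonempty ((Scheme.Modules.pullback (e.hom ≫ pullback.fst _ _)).obj (Twist.twistProjSpace 1 k 1) ≅ L) ∧
    Nonempty ((Scheme.Modules.pullback (e.hom ≫ pullback.snd _ _)).obj (Twist.twistProjSpace 1 k 1) ≅ M) := by
  obtain ⟨φ₁, hφ₁, ⟨e₁⟩⟩ := exists_map k hL hgL (n := 1) hL2
  obtain ⟨φ₂, hφ₂, ⟨e₂⟩⟩ := exists_map k hM hgM (n := 1) hM2
  have ha : pull φ₁ (o1 k) = mk L hL := by rw [pull_mk]; exact mk_congr e₁
  have hb : pull φ₂ (o1 k) = mk M hM := by rw [pull_mk]; exact mk_congr e₂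
  have hd1 : IsDominant φ₁ := isDominant_of_ne k φ₁ (by
    rw [ha]; intro h; rw [h, dot_one_left] at hLM; exact absurd hLM (by norm_num))
  have hd2 : IsDominant φ₂ := isDominant_of_ne k φ₂ (by
    rw [hb]; intro h; rw [h, dot_one_right] at hLM; exact absurd hLM (by norm_num))
  let φ : X ⟶ QQ k := pullback.lift φ₁ φ₂ (hφ₁.trans hφ₂.symm)
  let p₁ := pullback.fst (CohB1.ProjSpace.toSpec 1 k) (CohB1.ProjSpace.toSpec 1 k)
  let p₂ := pullback.snd (CohB1.ProjSpace.toSpec 1 k) (CohB1.ProjSpace.toSpec 1 k)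
  let q : QQ k ⟶ Sp k := p₁ ≫ CohB1.ProjSpace.toSpec 1 k
  have hφp₁ : φ ≫ p₁ = φ₁ := pullback.lift_fst _ _ _
  have hφp₂ : φ ≫ p₂ = φ₂ := pullback.lift_snd _ _ _
  have hφq : φ ≫ q = X ↘ (Sp k) := by
    change φ ≫ p₁ ≫ _ = _
    rw [← Category.assoc, hφp₁, hφ₁]
  have hP : IsProper (CohB1.ProjSpace.toSpec 1 k) := isProper_P1 k
  have hq : IsProper q := inferInstance
  have hφproper : IsProper φ := by
    have : IsProper (φ ≫ q) := by rw [hφq]; infer_instance
    exact IsProper.of_comp φ q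
  have hcX : CompactSpace X := QuasiCompact.compactSpace_of_compactSpace (X ↘ (Sp k))
  have hcQ : CompactSpace (QQ k) := QuasiCompact.compactSpace_of_compactSpace q
  -- finiteness
  have hqf : LocallyQuasiFinite (φ ∣_ ⊤) := by
    by_contra hcon
    obtain ⟨C, y, hC, hd, hd', -, hyc, hr⟩ := K427.GGMor.exists_ideal_of_not_quasiFinite k φ q ⊤ hcon
    have hN1 := Fdesc.LocGen.isInvertible_pullback p₁ (isInv k 1)
    have hN2 := Fdesc.LocGen.isInvertible_pullback p₂ (isInv k 1)
    have hN := Fdesc.LocGen.isInvertible_tensorMod hN1 hN2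
    have hT := Fdesc.LocGen.isInvertible_tensorMod hL hM
    have he : Nonempty ((Scheme.Modules.pullback φ).obj (CohB1.tensorMod
        ((Scheme.Modules.pullback p₁).obj (Twist.twistProjSpace 1 k 1))
        ((Scheme.Modules.pullback p₂).obj (Twist.twistProjSpace 1 k 1))) ≅ CohB1.tensorMod L M) := by
      rw [← mk_eq_iff (Fdesc.LocGen.isInvertible_pullback φ hN) hT, ← pull_mk φ hN, ← mk_mul_mk hN1 hN2,
        ← mk_mul_mk hL hM, map_mul, ← pull_mk p₁ (isInv k 1), ← pull_mk p₂ (isInv k 1), ← pull_comp, ← pull_comp,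
        hφp₁, hφp₂, ha, hb]
    obtain ⟨e⟩ := he
    refine K427.GGMor.not_isAmple_of_contracted k φ hN hT e C.subschemeι hd' y hyc
      (by rw [Scheme.IdealSheafData.range_subschemeι]; exact hr) ?_
    exact Sga5.AmpleFib.isAmple_pullback C.subschemeι hamp
  have hqf' : LocallyQuasiFinite φ :=
    (IsZariskiLocalAtTarget.iff_of_iSup_eq_top (P := @LocallyQuasiFinite)
      (fun _ : Unit => (⊤ : (QQ k).Opens)) (by simp)).2 fun _ => hqf
  -- the fibres
  have key : ∀ z : (QQ k), IsClosed ({z} : Set (QQ k)) →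
      IsClosedImmersion (φ.fiberToSpecResidueField z) ∧ z ∈ Set.range φ := by
    intro z hz
    have hz1 : IsClosed ({p₁ z} : Set (CohB1.ProjSpace 1 k)) := by
      rw [← Set.image_singleton]; exact p₁.isClosedMap _ hz
    have hz2 : IsClosed ({p₂ z} : Set (CohB1.ProjSpace 1 k)) := by
      rw [← Set.image_singleton]; exact p₂.isClosedMap _ hz
    let IC := (K464.PtCurve.pt hz1).comap φ₁
    let ID := (K464.PtCurve.pt hz2).comap φ₂
    have hC : BlowUp.IsEffCartierIdeal IC := isEff_fibre k φ₁ hz1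
    have hD : BlowUp.IsEffCartierIdeal ID := isEff_fibre k φ₂ hz2
    have hsup : ∀ x : X, x ∈ (IC ⊔ ID).support ↔ φ x = z := by
      intro x
      have h1 : x ∈ IC.support ↔ φ₁ x = p₁ z := by
        rw [Scheme.IdealSheafData.support_comap]
        exact K464.PtCurve.mem_support_pt hz1 (φ₁ x)
      have h2 : x ∈ ID.support ↔ φ₂ x = p₂ z := by
        rw [Scheme.IdealSheafData.support_comap]
        exact K464.PtCurve.mem_support_pt hz2 (φ₂ x)
      rw [Scheme.IdealSheafData.support_sup]
      change (x ∈ IC.support ∧ x ∈ ID.support) ↔ _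
      rw [h1, h2]
      constructor
      · rintro ⟨h3, h4⟩
        refine eq_of_proj k (CohB1.ProjSpace.toSpec 1 k) (CohB1.ProjSpace.toSpec 1 k) hz1 ?_ ?_
        · rw [← h3, ← hφp₁]; rfl
        · rw [← h4, ← hφp₂]; rfl
      · intro h3
        rw [← h3, ← hφp₁, ← hφp₂]
        exact ⟨rfl, rfl⟩
    have hfin : ((IC ⊔ ID).support : Set X).Finite := by
      have h1 : ((IC ⊔ ID).support : Set X) = φ ⁻¹' {z} := by
        ext x; exact hsup x
      rw [h1]
      exact φ.finite_preimage_singleton z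
    have hreg : ∀ x : X, IsRegularLocalRing (X.presheaf.stalk x) := fun x =>
      VarietyA.RegSmoothSch.isRegularLocalRing_stalk_of_mem_smoothLocus (X ↘ (Sp k)) x
        (by rw [(X ↘ (Sp k)).smoothLocus_eq_top]; trivial)
    have hnum := K455.CMInt.intNum_eq_of_isCohenMacaulay k (X := X) (fun Z hZ => by
      rw [show Z = Set.univ from ?_]
      · rw [← hdim]
        exact (IsHomeomorph.topologicalKrullDim_eq _ (Homeomorph.Set.univ X).isHomeomorph)
      · rw [irreducibleComponents_eq_singleton (X := X)] at hZ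
        exact hZ) IC ID hC hD (fun x _ => by
          have := hreg x
          exact Ega4A.RegCM.isCohenMacaulayLocalRing_of_isRegularLocalRing _) hfin
    rw [intNum_eq_dot k X hdim.le (Dix.IdealModCartier.isInvertible_idealMod hC)
      (Dix.IdealModCartier.isInvertible_idealMod hD)] at hnum
    have h5 : dot k X (ic IC hC) (ic ID hD) = 1 := by
      rw [dot_fibre k hdim.le φ₁ hφ₁ hz1 hC, dot_comm, dot_fibre k hdim.le φ₂ hφ₂ hz2 hD, ha, hb, neg_neg, dot_comm, hLM]
    have h6 : (Module.finrank k (Coh.HH X (ClSub.quotMod (IC ⊔ ID)) 0) : ℤ) = 1 := hnum.symm.trans h5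
    let J := IC ⊔ ID
    let _ : J.subscheme.Over (Sp k) := ⟨J.subschemeι ≫ (X ↘ (Sp k))⟩
    have hJp : IsProper (J.subscheme ↘ (Sp k)) :=
      inferInstanceAs (IsProper (J.subschemeι ≫ (X ↘ (Sp k))))
    have h7 : Module.finrank k (Coh.HH J.subscheme (Coh.structureModule J.subscheme) 0) = 1 := by
      have h8 := (CurvesC.CurveNum.hhPushₗ k J.subschemeι rfl (Coh.structureModule J.subscheme) 0).finrank_eq
      have h9 : Module.finrank k (Coh.HH X (ClSub.quotMod J) 0) = 1 := by exact_mod_cast h6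
      exact h8.trans h9
    have hJfin : (Set.univ : Set J.subscheme).Finite := by
      refine Set.Finite.of_finite_image (f := J.subschemeι) (hfin.subset ?_) J.subschemeι.isEmbedding.injective.injOn
      rintro _ ⟨z, -, rfl⟩
      exact Divis.CartierStalk.subschemeι_mem_support J z
    have h10 := isClosedImmersion_of_finrank k hJfin h7
    constructor
    · refine fibre_of_le k φ q hz J ?_ (by rw [hφq]; exact h10)
      exact sup_le (comap_pt_le φ φ₁ p₁ hφp₁ hz1) (comap_pt_le φ φ₂ p₂ hφp₂ hz2)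
    · have h11 := K514.Const.bijective_appTop_of_finrank k J.subscheme h7
      have h12 : Nonempty J.subscheme := by
        by_contra hemp
        rw [not_nonempty_iff] at hemp
        have h13 : Subsingleton Γ(Sp k, ⊤) := h11.1.subsingleton
        exact not_subsingleton Γ(Sp k, ⊤) h13
      obtain ⟨x⟩ := h12
      exact ⟨J.subschemeι x, (hsup _).1 (Divis.CartierStalk.subschemeι_mem_support J x)⟩
  have hcl : IsClosedImmersion φ := isClosedImmersion_of_fibres φ fun z hz => (key z hz).1
  have hsurj : Surjective φ := by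
    constructor
    rw [← Set.range_eq_univ]
    by_contra hne
    have hne' : (Set.range φ)ᶜ.Nonempty := Set.nonempty_compl.2 hne
    have hJQ : JacobsonSpace (QQ k) := LocallyOfFiniteType.jacobsonSpace q
    obtain ⟨z, hz, hzc⟩ := nonempty_inter_closedPoints hne'
      φ.isClosedMap.isClosed_range.isOpen_compl.isLocallyClosed
    exact hz (key z hzc).2
  have hred := isReduced_QQ k
  have hiso : IsIso φ := isIso_of_isClosedImmersion_of_surjective φ
  refine ⟨asIso φ, hφq, ⟨?_⟩, ⟨?_⟩⟩
  · exact (Scheme.Modules.pullbackCongr hφp₁).app _ ≪≫ e₁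
  · exact (Scheme.Modules.pullbackCongr hφp₂).app _ ≪≫ e₂

end main

end K823.P1P1
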