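import Groth.Agent.Surf.K823.SemiRed
import Groth.Agent.Surf.K823.GenFib
import Groth.Agent.Surf.K823.BaseField
import Groth.Agent.Surf.K823.NodalPt

/-!
# The semistability index of a family of curves at a point of the base, and nodality of relatively minimal models
-/

set_option autoImplicit false
universe u
open CategoryTheory CategoryTheory.Limits AlgebraicGeometry TopologicalSpace IsLocalRing

namespace K823.SemiAt

open Groth.Agent FibPt GenFib BaseField

variable {k : Type u} [Field k] {C X : Scheme.{u}} (sC : C ⟶ Spec (CommRingCat.of k))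

/-- `m` is a semistability index of `f : X ⟶ C` at the point `c`. -/
def IsIndex (f : X ⟶ C) (c : C) (m : ℕ) : Prop :=
  ∀ (A : Type u) [CommRing A] [IsDomain A] [IsDiscreteValuationRing A] [IsAdicComplete (maximalIdeal A) A]
    (ψ : C.presheaf.stalk c →+* A) (_ : Function.Surjective ((residue A).comp (ψ.comp (str sC c)))) (n : ℕ) (_ : n ≠ 0)
    (_ : m ∣ n) (_ : (maximalIdeal (C.presheaf.stalk c)).map ψ = maximalIdeal A ^ n) (P : Scheme.{u}) (a : P ⟶ X)
    (q : P ⟶ Spec (CommRingCat.of (FractionRing A)))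
    (_ : IsPullback a q f (Spec.map (CommRingCat.ofHom (algebraMap A (FractionRing A))) ≫
      Spec.map (CommRingCat.ofHom ψ) ≫ C.fromSpecStalk c)), Models.HasSemistableReduction A P q

theorem IsIndex.mono {f : X ⟶ C} {c : C} {m m' : ℕ} (h : IsIndex sC f c m) (hm : m ∣ m') : IsIndex sC f c m' :=
  fun A _ _ _ _ ψ hψ n hn hmn => h A ψ hψ n hn (hm.trans hmn)

theorem injective_of_map {R A : Type*} [CommRing R] [IsDomain R] [IsDiscreteValuationRing R] [CommRing A] [IsDomain A]
    [IsDiscreteValuationRing A] (ψ : R →+* A) {n : ℕ} (h : (maximalIdeal R).map ψ = maximalIdeal A ^ n) :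
    Function.Injective ψ := by
  rw [injective_iff_map_eq_zero]
  intro x hx
  by_contra hx0
  obtain ⟨ϖ, hϖ⟩ := IsDiscreteValuationRing.exists_irreducible R
  obtain ⟨N, u, rfl⟩ := IsDiscreteValuationRing.eq_unit_mul_pow_irreducible hx0 hϖ
  rw [map_mul, map_pow, mul_eq_zero] at hx
  rcases hx with hx | hx
  · exact (u.isUnit.map ψ).ne_zero hx
  · have hx := (pow_eq_zero_iff (n := N) (by rintro rfl; simp at hx)).1 hx
    rw [hϖ.maximalIdeal_eq, Ideal.map_span, Set.image_singleton, hx, Ideal.span_singleton_eq_bot.2 rfl] at h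
    exact pow_ne_zero n (IsDiscreteValuationRing.not_a_field A) h.symm

variable [IsAlgClosed k] [CharZero k] [IsIntegral C] [IsProper sC]

/-- Semistability indices exist. -/
theorem exists_isIndex {f : X ⟶ C} (hf : IsGen f) {c : C} (hc : IsClosed ({c} : Set C))
    [IsDiscreteValuationRing (C.presheaf.stalk c)] : ∃ m : ℕ, m ≠ 0 ∧ IsIndex sC f c m := by
  have hfl : Flat (Spec.map (CommRingCat.ofHom (algebraMap (C.presheaf.stalk c) (FractionRing (C.presheaf.stalk c)))) ≫
      C.fromSpecStalk c) := by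
    have h8 : Flat (Spec.map (CommRingCat.ofHom (algebraMap (C.presheaf.stalk c) (FractionRing (C.presheaf.stalk c))))) := by
      rw [HasRingHomProperty.Spec_iff (P := @Flat)]
      exact (RingHom.flat_algebraMap_iff (R := C.presheaf.stalk c)).2 inferInstance
    have h9 : Flat (C.fromSpecStalk c) := PerfA.StalkPush.flat_fromSpecStalk c
    exact MorphismProperty.comp_mem _ _ _ h8 h9
  obtain ⟨h1, h2⟩ := hf (FractionRing (C.presheaf.stalk c)) _ (apply_eq_genericPoint _) _ _ _
    (IsPullback.of_hasPullback f (Spec.map (CommRingCat.ofHom (algebraMap (C.presheaf.stalk c)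
      (FractionRing (C.presheaf.stalk c)))) ≫ C.fromSpecStalk c))
  obtain ⟨m, hm, H⟩ := SemiRed.exists_index (str sC c) (surjective_residue sC c hc) _ _ h1 h2
  refine ⟨m, hm, fun A _ _ _ _ ψ hψ n hn hmn hmap P a q hq => ?_⟩
  obtain ⟨Ψ, hΨ⟩ := SemiRed.exists_ext (K := FractionRing (C.presheaf.stalk c)) (L := FractionRing A) ψ
    (injective_of_map ψ hmap)
  obtain ⟨j, hj⟩ := exists_isPullback hq (IsPullback.of_hasPullback f (Spec.map (CommRingCat.ofHom
    (algebraMap (C.presheaf.stalk c) (FractionRing (C.presheaf.stalk c)))) ≫ C.fromSpecStalk c))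
    (i := Spec.map (CommRingCat.ofHom Ψ)) (by
      rw [← Category.assoc, ← Category.assoc, ← Spec.map_comp, ← Spec.map_comp, ← CommRingCat.ofHom_comp,
        ← CommRingCat.ofHom_comp, hΨ])
  exact H A ψ hψ n hn hmn hmap Ψ hΨ P q j hj

omit [CharZero k] [IsIntegral C] [IsProper sC] [IsAlgClosed k] in
theorem SpecMap_comp_stalkMap {B : Scheme.{u}} (φ : B ⟶ C) (w : B) {A : Type u} [CommRing A]
    (α : B.presheaf.stalk w →+* A) : Spec.map (CommRingCat.ofHom (α.comp (φ.stalkMap w).hom)) ≫ C.fromSpecStalk (φ w) =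
      (Spec.map (CommRingCat.ofHom α) ≫ B.fromSpecStalk w) ≫ φ := by
  rw [CommRingCat.ofHom_comp, Spec.map_comp, CommRingCat.ofHom_hom, Category.assoc, Category.assoc,
        Scheme.SpecMap_stalkMap_fromSpecStalk]

omit [CharZero k] in
/-- **Nodality** of the fibres of a relatively minimal model of a base change of divisible ramification. -/
theorem nodal_at {f : X ⟶ C} (hf : IsGen f) {φ : C ⟶ C} (hφ : φ ≫ sC = sC)
    (hφη : φ (genericPoint C) = genericPoint C)
    {Y : Scheme.{u}} {a : Y ⟶ X} {f' : Y ⟶ C} (hY : IsPullback a f' f φ) {U : C.Opens} (hU : genericPoint C ∈ U)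
    [Nonempty (f' ⁻¹ᵁ U : Scheme.{u})] {M : Scheme.{u}} {p : M ⟶ C} (hM : MinFib.IsMod sC U (f' ∣_ U) p)
    (hmin : ∀ (E : Scheme.{u}) (ι : E ⟶ M) [IsClosedImmersion ι], Models.IsExcCurve ι → ∀ b : C, b ∉ U →
      ¬ ∀ e : E, p (ι e) = b) [Flat p] {w : C} (hw : w ∉ U) (hwc : IsClosed ({w} : Set C))
    [IsDiscreteValuationRing (C.presheaf.stalk w)] {m n : ℕ} (hidx : IsIndex sC f (φ w) m) (hmn : m ∣ n) (hn : n ≠ 0)
    (hram : (maximalIdeal (C.presheaf.stalk (φ w))).map (φ.stalkMap w).hom = maximalIdeal (C.presheaf.stalk w) ^ n) :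
    (∀ Z ∈ irreducibleComponents (p.fiber w : Type u), topologicalKrullDim Z = 1) ∧
      letI : (p.fiber w).Over (Spec (C.residueField w)) := ⟨p.fiberToSpecResidueField w⟩
      Curv2.AtWorstNodal (C.residueField w) (p.fiber w) := by
  obtain ⟨A, _, _, _, α, π, hA, hα, hαm, hαs, hπ, hflat, hpb⟩ := CompPt.exists_completion w
  obtain ⟨e, he⟩ := hM.2
  have hf' : IsGen f' := hf.of_isPullback hφη hY
  have hp : IsGen p := hf'.of_iso hU e he
  have hfl : Flat (Spec.map (CommRingCat.ofHom (algebraMap A (FractionRing A))) ≫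
      Spec.map (CommRingCat.ofHom α) ≫ C.fromSpecStalk w) := by
    have h8 : Flat (Spec.map (CommRingCat.ofHom (algebraMap A (FractionRing A)))) := by
      rw [HasRingHomProperty.Spec_iff (P := @Flat)]
      exact (RingHom.flat_algebraMap_iff (R := A)).2 inferInstance
    exact MorphismProperty.comp_mem _ _ _ h8 hflat
  have hcan := IsPullback.of_hasPullback p (Spec.map (CommRingCat.ofHom (algebraMap A (FractionRing A))) ≫
      Spec.map (CommRingCat.ofHom α) ≫ C.fromSpecStalk w)
  obtain ⟨h1, h2⟩ := hp (FractionRing A) _ (apply_eq_genericPoint _) _ _ _ hcan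
  refine NodalPt.nodal hM hmin hw hwc hπ hpb hcan h1 h2 ?_
  obtain ⟨b', hb'⟩ := exists_transfer e he (fun x => by rw [apply_eq_genericPoint]; exact hU) hcan
  refine hidx A (α.comp (φ.stalkMap w).hom) ?_ n hn hmn ?_ _ (b' ≫ a) _ ?_
  · rw [RingHom.comp_assoc, stalkMap_comp_str sC sC φ hφ w]
    intro y
    obtain ⟨x, rfl⟩ := hαs y
    obtain ⟨t, ht⟩ := surjective_residue sC w hwc (residue _ x)
    refine ⟨t, ?_⟩
    have h4 : str sC w t - x ∈ maximalIdeal (C.presheaf.stalk w) := by
      rw [← residue_eq_zero_iff, map_sub, sub_eq_zero]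
      exact ht
    have h5 : α (str sC w t - x) ∈ maximalIdeal A := by
      rw [← hαm]
      exact Ideal.mem_map_of_mem _ h4
    rw [← residue_eq_zero_iff, map_sub, map_sub, sub_eq_zero] at h5
    exact h5
  · rw [← Ideal.map_map, hram, Ideal.map_pow, hαm]
  · have h3 := hb'.paste_horiz hY
    have h4 : (Spec.map (CommRingCat.ofHom (algebraMap A (FractionRing A))) ≫ Spec.map (CommRingCat.ofHom α) ≫
        C.fromSpecStalk w) ≫ φ = Spec.map (CommRingCat.ofHom (algebraMap A (FractionRing A))) ≫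
        Spec.map (CommRingCat.ofHom (α.comp (φ.stalkMap w).hom)) ≫ C.fromSpecStalk (φ w) := by
      rw [SpecMap_comp_stalkMap, Category.assoc]
    rw [h4] at h3
    exact h3

end K823.SemiAt
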