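import Groth.Agent.S3333
import Groth.Agent.Sga7.H734.NodalBC
import Groth.Agent.Surf.K823.PuisExt
import Groth.Agent.Surf.K823.DvrRes

/-!
# Semistable reduction over complete extensions of divisible ramification index
-/

set_option autoImplicit false
universe u

namespace K823.SemiRed

open IsLocalRing CategoryTheory CategoryTheory.Limits AlgebraicGeometry

/-- Extension of an injective homomorphism to the fraction fields. -/
theorem exists_ext {A B K L : Type*} [CommRing A] [IsDomain A] [CommRing B] [IsDomain B] [Field K] [Field L]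
    [Algebra A K] [IsFractionRing A K] [Algebra B L] [IsFractionRing B L] (χ : A →+* B)
    (hχ : Function.Injective χ) : ∃ Χ : K →+* L, Χ.comp (algebraMap A K) = (algebraMap B L).comp χ := by
  have hinj : Function.Injective ((algebraMap B L).comp χ) := (IsFractionRing.injective B L).comp hχ
  exact ⟨IsFractionRing.lift hinj, RingHom.ext fun x => IsFractionRing.lift_algebraMap hinj x⟩

theorem hom_ext {A K L : Type*} [CommRing A] [Field K] [Field L] [Algebra A K] [IsFractionRing A K]
    (f g : K →+* L) (h : f.comp (algebraMap A K) = g.comp (algebraMap A K)) : f = g :=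
  IsLocalization.ringHom_ext (nonZeroDivisors A) h

/-- Over a discrete valuation ring with an algebraically closed coefficient field of characteristic zero, a curve has
semistable reduction over all complete extensions of ramification index divisible by some `m`. -/
theorem exists_index {k R : Type u} [Field k] [IsAlgClosed k] [CharZero k] [CommRing R] [IsDomain R]
    [IsDiscreteValuationRing R] (σ : k →+* R) (hσ : Function.Surjective ((residue R).comp σ))
    (C : Scheme.{u}) (f : C ⟶ Spec (CommRingCat.of (FractionRing R)))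
    (hC : Curve.IsSmoothProperCurve (FractionRing R) C f) (hH0 : IsIso f.appTop) :
    ∃ m : ℕ, m ≠ 0 ∧ ∀ (B : Type u) [CommRing B] [IsDomain B] [IsDiscreteValuationRing B]
      [IsAdicComplete (maximalIdeal B) B] (ψ : R →+* B)
      (_ : Function.Surjective ((residue B).comp (ψ.comp σ))) (n : ℕ) (_ : n ≠ 0) (_ : m ∣ n)
      (_ : (maximalIdeal R).map ψ = maximalIdeal B ^ n) (Ψ : FractionRing R →+* FractionRing B)
      (_ : Ψ.comp (algebraMap R (FractionRing R)) = (algebraMap B (FractionRing B)).comp ψ)
      (C' : Scheme.{u}) (f' : C' ⟶ Spec (CommRingCat.of (FractionRing B))) (q : C' ⟶ C)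
      (_ : IsPullback q f' f (Spec.map (CommRingCat.ofHom Ψ))), Models.HasSemistableReduction B C' f' := by
  obtain ⟨R', _, _, _, φ, φK, hφ, hφK, hfin, hss⟩ := Groth.Agent.S3333.result R C f hC hH0
  obtain ⟨m, hm, hmφ⟩ := DvrRes.exists_ramification φ hφ
  have hσ' := DvrRes.surjective_residue σ hσ φ hφ φK hφK hfin
  refine ⟨m, hm, ?_⟩
  intro B _ _ _ _ ψ hσB n hn hmn hB Ψ hΨ C' f' q hq
  obtain ⟨χ, hχ, hχl, hχψ⟩ := PuisExt.exists_hom σ hσ φ hσ' ψ hσB hm hn hmn hmφ hB
  obtain ⟨Χ, hΧ⟩ := exists_ext (K := FractionRing R') (L := FractionRing B) χ hχ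
  have hcomp : Χ.comp φK = Ψ := by
    apply hom_ext (A := R)
    rw [RingHom.comp_assoc, hφK, ← RingHom.comp_assoc, hΧ, RingHom.comp_assoc, hχψ, hΨ]
  have hspec : Spec.map (CommRingCat.ofHom Χ) ≫ Spec.map (CommRingCat.ofHom φK) =
      Spec.map (CommRingCat.ofHom Ψ) := by
    rw [← Spec.map_comp, ← CommRingCat.ofHom_comp, hcomp]
  let q' : C' ⟶ pullback f (Spec.map (CommRingCat.ofHom φK)) :=
    pullback.lift q (f' ≫ Spec.map (CommRingCat.ofHom Χ)) (by rw [hq.w, Category.assoc, hspec])
  have hq' : IsPullback q' f' (pullback.snd f (Spec.map (CommRingCat.ofHom φK)))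
      (Spec.map (CommRingCat.ofHom Χ)) := by
    refine IsPullback.of_right (h₁₂ := pullback.fst f (Spec.map (CommRingCat.ofHom φK)))
      (h₂₂ := Spec.map (CommRingCat.ofHom φK)) (v₁₃ := f) ?_ (pullback.lift_snd _ _ _)
      (IsPullback.of_hasPullback _ _)
    rw [pullback.lift_fst, hspec]
    exact hq
  exact Groth.Agent.Sga7.H734.NodalBC.hasSemistableReduction_bc χ Χ hΧ hq' hss

end K823.SemiRed
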