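import Groth.Agent.Surf.K823.SemiAt
import Groth.Agent.Surf.K823.BadSet
import Groth.Agent.Surf.K573.PushUnit
import Groth.Agent.Picfga.CurvePts
import Groth.Agent.CurvesB.SmoothCurveFacts
import Groth.Agent.Models.K381.DedFlat
import Groth.Agent.S2431
import Groth.Agent.PosLin.K931.UnitInv
import Groth.Agent.Sga4B.SmoothNormal
import Groth.Agent.VarietyB.DimTop
import Groth.Agent.UnramB.FiberClosed

/-!
# Base change and relatively minimal models of a family of curves with two critical values
-/

set_option autoImplicit false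
universe u
open CategoryTheory CategoryTheory.Limits AlgebraicGeometry TopologicalSpace IsLocalRing

namespace K823.Total

open Groth.Agent FibPt GenFib

section base

variable {k : Type u} [Field k] {C : Scheme.{u}} (sC : C ⟶ Spec (CommRingCat.of k)) [IsProper sC] [Smooth sC]
  [IsIntegral C] (hC : topologicalKrullDim C = 1)

include hC in
omit [IsIntegral C] in
theorem isClosed_of_ne [IrreducibleSpace C] {c : C} (hc : c ≠ genericPoint C) : IsClosed ({c} : Set C) :=
  Picfga.CurvePts.isClosed_singleton_of_dim_le_one hC.le hc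

include hC in
omit [IsIntegral C] in
theorem ne_of_isClosed [IrreducibleSpace C] {c : C} (hc : IsClosed ({c} : Set C)) : c ≠ genericPoint C := by
  rintro rfl
  have huniv : (Set.univ : Set C) = {genericPoint C} := by
    rw [← genericPoint_closure, hc.closure_eq]
  have : Subsingleton C := by
    refine ⟨fun a b => ?_⟩
    have ha : a ∈ ({genericPoint C} : Set C) := huniv ▸ Set.mem_univ a
    have hb : b ∈ ({genericPoint C} : Set C) := huniv ▸ Set.mem_univ b
    rw [Set.mem_singleton_iff.1 ha, Set.mem_singleton_iff.1 hb]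
  have h0 : topologicalKrullDim C ≤ 0 := topologicalKrullDim_zero_of_discreteTopology C
  rw [hC] at h0
  exact absurd h0 (by decide)

include hC sC in
omit [IsProper sC] in
theorem isDVR {c : C} (hc : IsClosed ({c} : Set C)) : IsDiscreteValuationRing (C.presheaf.stalk c) :=
  CurvesB.SmoothCurveFacts.isDiscreteValuationRing_stalk sC hC.le (ne_of_isClosed hC hc)

include sC in
omit [IsProper sC] [IsIntegral C] in
theorem isIntegrallyClosed (c : C) : IsIntegrallyClosed (C.presheaf.stalk c) :=
  (Sga4B.SmoothNormal.isNormalScheme_of_smooth sC c).2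

include hC sC in
omit [IsProper sC] in
theorem isPID (c : C) : IsPrincipalIdealRing (C.presheaf.stalk c) :=
  K381.DedFlat.isPrincipalIdealRing_stalk
    (fun s => Lefpen.H705.ClosedPoint.isRegularLocalRing_stalk sC s) hC.le c

end base

section bc

variable {k : Type u} [Field k] [IsAlgClosed k] {C : Scheme.{u}} (sC : C ⟶ Spec (CommRingCat.of k)) [IsProper sC]
  [Smooth sC] [IsIntegral C] (hC : topologicalKrullDim C = 1) {X : Scheme.{u}} (f : X ⟶ C)
  (hfib : ∀ c : C, ConnectedSpace ↥(f.fiber c) ∧ topologicalKrullDim ↥(f.fiber c) = 1) {φ : C ⟶ C}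
  (hφ : φ ≫ sC = sC) (hφη : φ (genericPoint C) = genericPoint C) {Y : Scheme.{u}} {a : Y ⟶ X} {f' : Y ⟶ C}
  (hY : IsPullback a f' f φ)

include hφ in
omit [IsAlgClosed k] [Smooth sC] [IsIntegral C] in
theorem isClosed_apply {w : C} (hw : IsClosed ({w} : Set C)) : IsClosed ({φ w} : Set C) := by
  have h1 : IsProper (φ ≫ sC) := by rw [hφ]; infer_instance
  have h2 : IsProper φ := IsProper.of_comp φ sC
  have h3 := φ.isClosedMap _ hw
  rwa [Set.image_singleton] at h3

include hC hfib hφ hφη hY in
omit [Smooth sC] in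
/-- The fibres of the base change. -/
theorem fib (hf : IsGen f) (c : C) : ConnectedSpace ↥(f'.fiber c) ∧ topologicalKrullDim ↥(f'.fiber c) = 1 := by
  by_cases hc : c = genericPoint C
  · subst hc
    have h1 : IsGen f' := hf.of_isPullback hφη hY
    obtain ⟨⟨h2, h3, h4, h5⟩, h6⟩ := h1 (C.residueField (genericPoint C)) (C.fromSpecResidueField (genericPoint C))
      (fun x => Scheme.fromSpecResidueField_apply _ _) _ _ _
      (IsPullback.of_hasPullback f' (C.fromSpecResidueField (genericPoint C)))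
    have h7 : IsIntegral (f'.fiber (genericPoint C)) := h4
    exact ⟨inferInstance, h5⟩
  · have hcc := isClosed_of_ne hC hc
    obtain ⟨e, -⟩ := exists_iso_fiber sC sC φ hφ f f' hY ⊤ (Iso.refl _) (by simp) (w := c) trivial hcc
      (isClosed_apply sC hφ hcc)
    obtain ⟨h1, h2⟩ := hfib (φ c)
    refine ⟨?_, ?_⟩
    · exact e.inv.homeomorph.surjective.connectedSpace e.inv.continuous
    · rw [← h2]
      exact IsHomeomorph.topologicalKrullDim_eq _ e.hom.homeomorph.isHomeomorph

end bc

theorem exists_gen_point (C : Scheme.{u}) [IrreducibleSpace C] : ∃ (K : Type u) (_ : Field K)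
    (h : Spec (CommRingCat.of K) ⟶ C), ∀ x, h x = genericPoint C :=
  ⟨C.residueField (genericPoint C), inferInstance, C.fromSpecResidueField (genericPoint C),
    fun _ => Scheme.fromSpecResidueField_apply _ _⟩

theorem nonempty_iso {A B T S : Scheme.{u}} (e : A ≅ B) (g : B ⟶ S) {h : A ⟶ S} (he : e.hom ≫ g = h) (c : T ⟶ S) :
    Nonempty (pullback h c ≅ pullback g c) := by
  subst he
  have h1 : IsPullback (pullback.fst g c ≫ e.inv) (pullback.snd g c) (e.hom ≫ g) c :=
    IsPullback.of_iso (IsPullback.of_hasPullback g c) (Iso.refl _) e.symm (Iso.refl _) (Iso.refl _) (by simp)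
      (by simp) (by simp) (by simp)
  exact ⟨(IsPullback.of_hasPullback (e.hom ≫ g) c).isoIsPullback _ _ h1⟩

section model

variable {k : Type u} [Field k] [IsAlgClosed k] {C : Scheme.{u}} (sC : C ⟶ Spec (CommRingCat.of k)) [IsProper sC]
  [Smooth sC] [IsIntegral C] (hC : topologicalKrullDim C = 1) {Y : Scheme.{u}} (f' : Y ⟶ C)
  (hfib : ∀ c : C, ConnectedSpace ↥(f'.fiber c) ∧ topologicalKrullDim ↥(f'.fiber c) = 1) (hf : IsGen f') (U : C.Opens)
  (hη : genericPoint C ∈ U) {M : Scheme.{u}} {p : M ⟶ C} (hM : MinFib.IsMod sC U (f' ∣_ U) p)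

include hM in
omit [IsAlgClosed k] [Smooth sC] [IsIntegral C] in
theorem isProper : IsProper p := by
  have := hM.1.proper
  exact IsProper.of_comp p sC

include hη hM hfib in
omit [IsAlgClosed k] [Smooth sC] in
theorem surjective : Surjective p := by
  have hp := isProper sC f' U hM
  obtain ⟨e, he⟩ := hM.2
  have h1 : ∀ u ∈ U, u ∈ Set.range p := by
    intro u hu
    have h2 := (SmoothPart.conn_restrict f' U (fun c => (hfib c).1) ⟨u, hu⟩).toNonempty
    obtain ⟨y⟩ := h2
    have h3 : (f' ∣_ U) ((f' ∣_ U).fiberι ⟨u, hu⟩ y) = ⟨u, hu⟩ := by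
      have h4 : (f' ∣_ U).fiberι ⟨u, hu⟩ y ∈ Set.range ((f' ∣_ U).fiberι ⟨u, hu⟩) := ⟨y, rfl⟩
      rw [Scheme.Hom.range_fiberι] at h4
      exact h4
    have h5 : (p ∣_ U) (e.inv ((f' ∣_ U).fiberι ⟨u, hu⟩ y)) = ⟨u, hu⟩ := by
      rw [← he, ← Scheme.Hom.comp_apply, Iso.inv_hom_id_assoc, h3]
    have h6 := congrArg Subtype.val h5
    rw [morphismRestrict_base_coe] at h6
    exact ⟨_, h6⟩
  have h2 : IsClosed (Set.range p) := p.isClosedMap.isClosed_range
  refine ⟨fun c => ?_⟩
  have h3 : c ∈ closure ({genericPoint C} : Set C) := genericPoint_specializes c |>.mem_closure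
  exact (closure_minimal (Set.singleton_subset_iff.2 (h1 _ hη)) h2) h3

include hη hM hfib hC in
omit [IsAlgClosed k] in
theorem flat : Flat p := by
  have := hM.1.integral
  have := surjective sC f' hfib U hη hM
  have : IsDominant p := inferInstance
  exact K381.DedFlat.flat_of_isDominant p (isPID sC hC)

include hη hM hf in
omit [IsAlgClosed k] [IsProper sC] [Smooth sC] in
theorem isGen : IsGen p := by
  obtain ⟨e, he⟩ := hM.2
  exact hf.of_iso hη e he

include hη hM hf hfib in
omit [IsAlgClosed k] in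
theorem unitToPush : IsIso (ClSub.unitToPush p) := by
  have := hM.1.integral
  have := isProper sC f' U hM
  have := surjective sC f' hfib U hη hM
  have : IsDominant p := inferInstance
  have := BadSet.isNoetherian_base sC
  have h1 := isGen sC f' hf U hη hM
  obtain ⟨K, _, h, hh⟩ := exists_gen_point C
  have h2 := (h1 K h hh _ _ _ (IsPullback.of_hasPullback p h)).2
  exact Surf.K573.PushUnit.isIso_unitToPush_of_isProper (isIntegrallyClosed sC) p (K381.DedFlat.map_genericPoint p)
    K h hh h2

include hη hM hf hfib in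
omit [IsAlgClosed k] in
theorem conn (c : C) : ConnectedSpace (p.fiber c) := by
  have := isProper sC f' U hM
  have := BadSet.isNoetherian_base sC
  have hu := unitToPush sC f' hfib hf U hη hM
  exact (S2431.result p (fun V => by
    have h2 := K931.UnitInv.bijective_app_of_isIso p hu V
    exact (ConcreteCategory.isIso_iff_bijective (p.app V)).2 h2)).1 c

variable [LocallyOfFinitePresentation f'] (hU : ∀ y : Y, f' y ∈ U → y ∈ f'.smoothLocus)

include hU hM in
omit [IsAlgClosed k] [Smooth sC] [IsIntegral C] [IsProper sC] in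
theorem mem_smoothLocus [LocallyOfFinitePresentation p] (x : M) (hx : p x ∈ U) :
    x ∈ p.smoothLocus := by
  obtain ⟨e, he⟩ := hM.2
  have h1 := SmoothPart.smooth_restrict f' U hU
  have h2 : Smooth (p ∣_ U) := by rw [← he]; infer_instance
  have h3 : (⟨x, hx⟩ : (p ⁻¹ᵁ U : Scheme.{u})) ∈ (p ∣_ U).smoothLocus := by
    rw [Scheme.Hom.smoothLocus_eq_top_iff.2 h2]
    trivial
  have h4 := (Smoothlim.SmoothLocusBC.mem_smoothLocus_iff_of_isPullback (isPullback_morphismRestrict p U).flip
    (⟨x, hx⟩ : (p ⁻¹ᵁ U : Scheme.{u})) (Or.inr inferInstance)).1 h3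
  exact h4

include hM hfib in
omit [IsAlgClosed k] [Smooth sC] [IsIntegral C] [IsProper sC] [LocallyOfFinitePresentation f'] in
theorem dim_of_mem {s : C} (hs : s ∈ U) : topologicalKrullDim (p.fiber s) = 1 := by
  obtain ⟨e, he⟩ := hM.2
  obtain ⟨ep⟩ := UnramB.FiberClosed.arrow_fiber_restrict p U ⟨s, hs⟩
  have e1 : (p ∣_ U).fiber ⟨s, hs⟩ ≅ p.fiber s := Arrow.leftFunc.mapIso ep
  obtain ⟨e2⟩ : Nonempty ((p ∣_ U).fiber ⟨s, hs⟩ ≅ (f' ∣_ U).fiber ⟨s, hs⟩) :=
    nonempty_iso e (f' ∣_ U) he (U.toScheme.fromSpecResidueField ⟨s, hs⟩)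
  rw [← SmoothPart.dim_restrict f' U (fun c => (hfib c).2) ⟨s, hs⟩]
  exact (IsHomeomorph.topologicalKrullDim_eq _ e1.inv.homeomorph.isHomeomorph).trans
    (IsHomeomorph.topologicalKrullDim_eq _ e2.hom.homeomorph.isHomeomorph)

include hM hU in
omit [IsAlgClosed k] [Smooth sC] [IsIntegral C] [IsProper sC] in
theorem smooth_of_mem [LocallyOfFinitePresentation p] [Flat p] {s : C} (hs : s ∈ U) :
    Smooth (p.fiberToSpecResidueField s) :=
  (K627.SurfFin.smooth_fiber_iff p s).2 fun x hx => mem_smoothLocus sC f' U hM hU x (by rw [hx]; exact hs)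

omit [IsAlgClosed k] in
/-- Smooth connected curves are at worst nodal. -/
theorem nodal_of_smooth {F : Scheme.{u}} [F.Over (Spec (CommRingCat.of k))] [Smooth (F ↘ Spec (CommRingCat.of k))]
    [ConnectedSpace F] (hF : topologicalKrullDim F = 1) :
    (∀ Z ∈ irreducibleComponents (F : Type u), topologicalKrullDim Z = 1) ∧ Curv2.AtWorstNodal k F := by
  have h1 : IsIntegral F := K247.SmoothGI.isIntegral_of_smooth (F ↘ Spec (CommRingCat.of k))
  refine ⟨fun Z hZ => ?_, fun x _ => Or.inl ⟨⊤, trivial, inferInstance⟩⟩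
  have h4 : Z = Set.univ := by
    rw [irreducibleComponents_eq_singleton (X := F)] at hZ
    exact hZ
  subst h4
  rw [← hF]
  exact IsHomeomorph.topologicalKrullDim_eq _ (Homeomorph.Set.univ F).isHomeomorph

end model

end K823.Total
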